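import Groth.Agent.Lib.QcDesc1.Sheaf

/-!
# Base change of sections of quasi-coherent modules
-/

set_option autoImplicit false
universe u

open CategoryTheory CategoryTheory.Limits AlgebraicGeometry Opposite TopologicalSpace TensorProduct
open GrothLib.QCoh (pullSec sectionsMap)

set_option backward.isDefEq.respectTransparency false

noncomputable section

namespace GrothLib.QcEff29

section Push

variable {X S : Scheme.{u}} {W W' : Scheme.{u}} (f : W ⟶ X) (g : W' ⟶ W) (q : W' ⟶ X) (h : g ≫ f = q) (M : X.Modules)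
  {T : W.Opens} {T' : W'.Opens} (e : T' ≤ g ⁻¹ᵁ T)

/-- Pulling sections of an inverse image back further. -/
irreducible_def pushSec : Γ((Scheme.Modules.pullback f).obj M, T) →+ Γ((Scheme.Modules.pullback q).obj M, T') :=
  (Scheme.Modules.Hom.app (QcDesc1.cT f g q h M).hom T').hom.comp (pullSec g _ e)

theorem pushSec_smul (r : Γ(W, T)) (s : Γ((Scheme.Modules.pullback f).obj M, T)) :
    pushSec f g q h M e (r • s) = g.appLE T T' e r • pushSec f g q h M e s := by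
  rw [pushSec_def, AddMonoidHom.comp_apply, QCoh.pullSec_smul, AddMonoidHom.comp_apply]
  exact Scheme.Modules.Hom.app_smul _ _ _

theorem pushSec_pullSec {P : X.Opens} (e₁ : T ≤ f ⁻¹ᵁ P) (e₃ : T' ≤ q ⁻¹ᵁ P) (n : Γ(M, P)) :
    pushSec f g q h M e (pullSec f M e₁ n) = pullSec q M e₃ n := by
  rw [pushSec_def]
  exact QcDesc1.cT_hom_pullSec f g q h M e₁ e e₃ n

theorem pushSec_natural {X' : Scheme.{u}} (f' : W ⟶ X') (q' : W' ⟶ X') (h' : g ≫ f' = q') (M' : X'.Modules)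
    (φ : (Scheme.Modules.pullback f).obj M ⟶ (Scheme.Modules.pullback f').obj M')
    (φ' : (Scheme.Modules.pullback q).obj M ⟶ (Scheme.Modules.pullback q').obj M')
    (hp : (QcDesc1.cT f g q h M).inv ≫ (Scheme.Modules.pullback g).map φ ≫ (QcDesc1.cT f' g q' h' M').hom = φ')
    (s : Γ((Scheme.Modules.pullback f).obj M, T)) :
    pushSec f' g q' h' M' e (φ.app T s) = φ'.app T' (pushSec f g q h M e s) := by
  have hp' : (Scheme.Modules.pullback g).map φ ≫ (QcDesc1.cT f' g q' h' M').hom = (QcDesc1.cT f g q h M).hom ≫ φ' := by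
    rw [← hp, Iso.hom_inv_id_assoc]
  rw [pushSec_def, pushSec_def]
  show (QcDesc1.cT f' g q' h' M').hom.app T' (pullSec g _ e (φ.app T s)) =
    φ'.app T' ((QcDesc1.cT f g q h M).hom.app T' (pullSec g _ e s))
  refine (congrArg ((QcDesc1.cT f' g q' h' M').hom.app T') (QCoh.pullSec_natural g φ e s).symm).trans ?_
  exact congr($(hp').app T' _)

end Push

/-- A descent datum of modules, spelled out. -/
structure Datum {ι : Type u} {S : Scheme.{u}} {X : ι → Scheme.{u}} (f : ∀ i, X i ⟶ S) where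
  M : ∀ i, (X i).Modules
  qc : ∀ i, (M i).IsQuasicoherent
  hom : ∀ {W : Scheme.{u}} (q : W ⟶ S) {i j : ι} (g₁ : W ⟶ X i) (g₂ : W ⟶ X j), g₁ ≫ f i = q → g₂ ≫ f j = q →
    ((Scheme.Modules.pullback g₁).obj (M i) ⟶ (Scheme.Modules.pullback g₂).obj (M j))
  nat : ∀ {W' W : Scheme.{u}} (g : W' ⟶ W) (q : W ⟶ S) (q' : W' ⟶ S), g ≫ q = q' → ∀ {i j : ι} (g₁ : W ⟶ X i)
    (g₂ : W ⟶ X j) (h₁ : g₁ ≫ f i = q) (h₂ : g₂ ≫ f j = q) (g₁' : W' ⟶ X i) (g₂' : W' ⟶ X j) (e₁ : g ≫ g₁ = g₁')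
    (e₂ : g ≫ g₂ = g₂') (h₁' : g₁' ≫ f i = q') (h₂' : g₂' ≫ f j = q'),
      (QcDesc1.cT g₁ g g₁' e₁ (M i)).inv ≫ (Scheme.Modules.pullback g).map (hom q g₁ g₂ h₁ h₂) ≫
        (QcDesc1.cT g₂ g g₂' e₂ (M j)).hom = hom q' g₁' g₂' h₁' h₂'
  self : ∀ {W : Scheme.{u}} (q : W ⟶ S) {i : ι} (g : W ⟶ X i) (h : g ≫ f i = q), hom q g g h h = 𝟙 _
  comp : ∀ {W : Scheme.{u}} (q : W ⟶ S) {i j l : ι} (g₁ : W ⟶ X i) (g₂ : W ⟶ X j) (g₃ : W ⟶ X l)
    (h₁ : g₁ ≫ f i = q) (h₂ : g₂ ≫ f j = q) (h₃ : g₃ ≫ f l = q),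
      hom q g₁ g₂ h₁ h₂ ≫ hom q g₂ g₃ h₂ h₃ = hom q g₁ g₃ h₁ h₃

variable {W Y : Scheme.{u}} (g : W ⟶ Y) (G : Y.Modules) {Q : Y.Opens} {T : W.Opens} (e : T ≤ g ⁻¹ᵁ Q)
  {A B C : Type u} [CommRing A] [CommRing B] [CommRing C] [Algebra A B] [Algebra A C] [Module A Γ(G, Q)]
  (eC : C ≃+* Γ(Y, Q)) (hA : ∀ (a : A) (n : Γ(G, Q)), a • n = eC (algebraMap A C a) • n)
  (ψ : B ⊗[A] C ≃+* Γ(W, T)) (hψ : ∀ c : C, g.appLE Q T e (eC c) = ψ (1 ⊗ₜ c))

include hA hψ in
/-- Sections of an inverse image along a base change are base changes of sections. -/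
theorem bc_bijective [G.IsQuasicoherent] (hQ : IsAffineOpen Q) (hT : IsAffineOpen T)
    (Θ : B ⊗[A] Γ(G, Q) →+ Γ((Scheme.Modules.pullback g).obj G, T))
    (hΘ : ∀ b n, Θ (b ⊗ₜ n) = ψ (b ⊗ₜ 1) • pullSec g G e n) : Function.Bijective Θ := by
  letI : Algebra Γ(Y, Q) Γ(W, T) := (g.appLE Q T e).hom.toAlgebra
  let mulL : Γ(G, Q) → (C →ₗ[A] Γ(G, Q)) := fun n =>
    { toFun := fun c => eC c • n
      map_add' := fun c d => by rw [map_add, add_smul]
      map_smul' := fun a c => by rw [RingHom.id_apply, hA a (eC c • n), Algebra.smul_def, map_mul, mul_smul] }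
  let bil : Γ(W, T) →+ Γ(G, Q) →+ B ⊗[A] Γ(G, Q) :=
    { toFun := fun t =>
        { toFun := fun n => LinearMap.lTensor B (mulL n) (ψ.symm t)
          map_zero' := by
            have : mulL 0 = 0 := LinearMap.ext fun c => smul_zero _
            rw [this, LinearMap.lTensor_zero, LinearMap.zero_apply]
          map_add' := fun n m => by
            have : mulL (n + m) = mulL n + mulL m := LinearMap.ext fun c => smul_add _ _ _
            rw [this, LinearMap.lTensor_add, LinearMap.add_apply] }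
      map_zero' := by ext n; simp
      map_add' := fun s t => by ext n; simp }
  have hbal : ∀ (r : Γ(Y, Q)) (t : Γ(W, T)) (n : Γ(G, Q)), bil (r • t) n = bil t (r • n) := fun r t n => by
    obtain ⟨c, rfl⟩ := eC.surjective r
    show LinearMap.lTensor B (mulL n) (ψ.symm (g.appLE Q T e (eC c) * t)) = LinearMap.lTensor B (mulL (eC c • n)) (ψ.symm t)
    rw [hψ c, map_mul, ψ.symm_apply_apply]
    generalize ψ.symm t = w
    induction w using TensorProduct.induction_on with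
    | zero => simp
    | tmul b d =>
      rw [Algebra.TensorProduct.tmul_mul_tmul, one_mul, LinearMap.lTensor_tmul, LinearMap.lTensor_tmul]
      show b ⊗ₜ[A] (eC (c * d) • n) = b ⊗ₜ[A] (eC d • eC c • n)
      rw [smul_smul, map_mul, mul_comm]
    | add a b ha hb => rw [mul_add, map_add, map_add, ha, hb]
  let σ : Γ(W, T) ⊗[Γ(Y, Q)] Γ(G, Q) →+ B ⊗[A] Γ(G, Q) := TensorProduct.liftAddHom bil hbal
  have hsm := QCoh.bijective_sectionsMap g G e rfl hQ hT
  have h1 : ∀ z, Θ (σ z) = sectionsMap g G e rfl z := fun z => by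
    induction z using TensorProduct.induction_on with
    | zero => simp
    | tmul t n =>
      rw [QCoh.sectionsMap_tmul]
      show Θ (LinearMap.lTensor B (mulL n) (ψ.symm t)) = _
      obtain ⟨w, rfl⟩ := ψ.surjective t
      rw [ψ.symm_apply_apply]
      induction w using TensorProduct.induction_on with
      | zero => simp
      | tmul b d =>
        rw [LinearMap.lTensor_tmul, hΘ]
        show ψ (b ⊗ₜ 1) • pullSec g G e (eC d • n) = _
        rw [QCoh.pullSec_smul, hψ d, smul_smul, ← map_mul, Algebra.TensorProduct.tmul_mul_tmul, mul_one, one_mul]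
      | add a b ha hb => rw [map_add, map_add, ha, hb, map_add, add_smul]
    | add a b ha hb => rw [map_add, map_add, ha, hb, map_add]
  have h2 : Function.Surjective σ := fun z => by
    induction z using TensorProduct.induction_on with
    | zero => exact ⟨0, map_zero σ⟩
    | tmul b n =>
      refine ⟨ψ (b ⊗ₜ 1) ⊗ₜ n, ?_⟩
      show LinearMap.lTensor B (mulL n) (ψ.symm (ψ (b ⊗ₜ 1))) = _
      rw [ψ.symm_apply_apply, LinearMap.lTensor_tmul]
      show b ⊗ₜ[A] (eC 1 • n) = _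
      rw [map_one, one_smul]
    | add a b ha hb =>
      obtain ⟨x, hx⟩ := ha
      obtain ⟨y, hy⟩ := hb
      exact ⟨x + y, by rw [map_add, hx, hy]⟩
  refine ⟨fun a b hab => ?_, fun y => ?_⟩
  · obtain ⟨x, rfl⟩ := h2 a
    obtain ⟨x', rfl⟩ := h2 b
    rw [h1, h1] at hab
    rw [hsm.1 hab]
  · obtain ⟨z, rfl⟩ := hsm.2 y
    exact ⟨σ z, h1 z⟩

theorem bc_push_bijective {W Y Z : Scheme.{u}} (f' : Y ⟶ Z) (g : W ⟶ Y) (q : W ⟶ Z) (h : g ≫ f' = q) (M : Z.Modules)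
    [((Scheme.Modules.pullback f').obj M).IsQuasicoherent] {Q : Y.Opens} {T : W.Opens} (e : T ≤ g ⁻¹ᵁ Q)
    {A₀ B C : Type u} [CommRing A₀] [CommRing B] [CommRing C] [Algebra A₀ B] [Algebra A₀ C]
    [Module A₀ Γ((Scheme.Modules.pullback f').obj M, Q)] (eC : C ≃+* Γ(Y, Q))
    (hA : ∀ (a : A₀) (n : Γ((Scheme.Modules.pullback f').obj M, Q)), a • n = eC (algebraMap A₀ C a) • n)
    (ψ : B ⊗[A₀] C ≃+* Γ(W, T)) (hψ : ∀ c : C, g.appLE Q T e (eC c) = ψ (1 ⊗ₜ c)) (hQ : IsAffineOpen Q)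
    (hT : IsAffineOpen T) (Θ : B ⊗[A₀] Γ((Scheme.Modules.pullback f').obj M, Q) →+ Γ((Scheme.Modules.pullback q).obj M, T))
    (hΘ : ∀ b n, Θ (b ⊗ₜ n) = ψ (b ⊗ₜ 1) • pushSec f' g q h M e n) : Function.Bijective Θ := by
  let c := QcDesc1.cT f' g q h M
  have h1 : ∀ b n, ((Scheme.Modules.Hom.app c.inv T).hom.comp Θ) (b ⊗ₜ n) = ψ (b ⊗ₜ 1) • pullSec g _ e n := fun b n => by
    show c.inv.app T (Θ (b ⊗ₜ n)) = _
    rw [hΘ, Scheme.Modules.Hom.app_smul, pushSec_def]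
    exact congrArg (ψ (b ⊗ₜ 1) • ·) congr($(c.hom_inv_id).app T _)
  have h2 := bc_bijective g _ e eC hA ψ hψ hQ hT _ h1
  refine ⟨fun a b hab => h2.1 (congrArg (c.inv.app T) hab), fun y => ?_⟩
  obtain ⟨w, hw⟩ := h2.2 (c.inv.app T y)
  refine ⟨w, ?_⟩
  have h3 := congrArg (c.hom.app T) hw
  exact ((congr($(c.inv_hom_id).app T (Θ w))).symm.trans h3).trans congr($(c.inv_hom_id).app T y)

end GrothLib.QcEff29
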