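import Groth.Agent.Lib.QcEff29.Base

/-!
# Descent data on affine charts
-/

set_option autoImplicit false
universe u

open CategoryTheory CategoryTheory.Limits AlgebraicGeometry Opposite TopologicalSpace TensorProduct
open GrothLib.QCoh (pullSec sectionsMap)
open GrothLib.QcDesc1 (cT)

set_option backward.isDefEq.respectTransparency false

noncomputable section

namespace GrothLib.QcEff29

variable {ι : Type u} {S : Scheme.{u}} {X : ι → Scheme.{u}}

/-- A finite family of affine charts covering an affine open of the base. -/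
structure Fam (f : ∀ i, X i ⟶ S) (V : S.Opens) where
  hV : IsAffineOpen V
  κ : Type u
  fin : Finite κ
  ix : κ → ι
  P : ∀ k, (X (ix k)).Opens
  hP : ∀ k, IsAffineOpen (P k)
  hle : ∀ k, P k ≤ f (ix k) ⁻¹ᵁ V
  hcov : ∀ v ∈ V, ∃ k, ∃ p ∈ P k, f (ix k) p = v

variable {f : ∀ i, X i ⟶ S} {V : S.Opens} (F : Fam f V) (D : Datum f)

namespace Fam

/-- The ring of a chart. -/
abbrev B (k : F.κ) : Type u := Γ(X (F.ix k), F.P k)

instance instAlgB (k : F.κ) : Algebra Γ(S, V) (F.B k) :=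
  ((f (F.ix k)).appLE V (F.P k) (F.hle k)).hom.toAlgebra

variable (R : Type u) [CommRing R] [Algebra Γ(S, V) R]

/-- The map to the base. -/
irreducible_def base : Spec (CommRingCat.of R) ⟶ S := Spec.map (CommRingCat.ofHom (algebraMap Γ(S, V) R)) ≫ F.hV.fromSpec

variable {R} {k : F.κ}

/-- A point of a chart. -/
irreducible_def pt {k : F.κ} (α : F.B k →ₐ[Γ(S, V)] R) : Spec (CommRingCat.of R) ⟶ X (F.ix k) :=
  Spec.map (CommRingCat.ofHom α.toRingHom) ≫ (F.hP k).fromSpec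

theorem pt_f (α : F.B k →ₐ[Γ(S, V)] R) : F.pt α ≫ f (F.ix k) = F.base R := by
  have h : (f (F.ix k)).appLE V (F.P k) (F.hle k) ≫ CommRingCat.ofHom α.toRingHom =
      CommRingCat.ofHom (algebraMap Γ(S, V) R) := by
    ext a
    exact α.commutes a
  rw [pt_def, base_def, Category.assoc, ← F.hV.SpecMap_appLE_fromSpec (f (F.ix k)) (F.hP k) (F.hle k), ← h]
  exact (Spec.map_comp_assoc _ _ _).symm

theorem pt_le (α : F.B k →ₐ[Γ(S, V)] R) : (⊤ : (Spec (CommRingCat.of R)).Opens) ≤ F.pt α ⁻¹ᵁ F.P k :=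
  fun _ _ => by rw [pt_def]; exact (F.hP k).range_fromSpec.le ⟨_, rfl⟩

theorem comp_pt {R' : Type u} [CommRing R'] [Algebra Γ(S, V) R'] (β : R →ₐ[Γ(S, V)] R') (α : F.B k →ₐ[Γ(S, V)] R) :
    Spec.map (CommRingCat.ofHom β.toRingHom) ≫ F.pt α = F.pt (β.comp α) := by
  rw [pt_def, pt_def]
  exact (Spec.map_comp_assoc _ _ _).symm

theorem comp_base {R' : Type u} [CommRing R'] [Algebra Γ(S, V) R'] (β : R →ₐ[Γ(S, V)] R') :
    Spec.map (CommRingCat.ofHom β.toRingHom) ≫ F.base R = F.base R' := by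
  have h : CommRingCat.ofHom (algebraMap Γ(S, V) R) ≫ CommRingCat.ofHom β.toRingHom =
      CommRingCat.ofHom (algebraMap Γ(S, V) R') := by
    ext a
    exact β.commutes a
  rw [base_def, base_def, ← h]
  exact (Spec.map_comp_assoc _ _ _).symm

end Fam

/-- The functions on a spectrum. -/
irreducible_def io (R : Type u) [CommRing R] : R ≃+* Γ(Spec (CommRingCat.of R), ⊤) :=
  (Scheme.ΓSpecIso (CommRingCat.of R)).commRingCatIsoToRingEquiv.symm

theorem le_top_preimage {A B : Scheme.{u}} (g : A ⟶ B) : (⊤ : A.Opens) ≤ g ⁻¹ᵁ ⊤ := fun _ _ => trivial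

theorem appLE_SpecMap {R R' : Type u} [CommRing R] [CommRing R'] (β : R →+* R')
    (e : (⊤ : (Spec (CommRingCat.of R')).Opens) ≤ Spec.map (CommRingCat.ofHom β) ⁻¹ᵁ ⊤) (r : R) :
    (Spec.map (CommRingCat.ofHom β)).appLE ⊤ ⊤ e (io R r) = io R' (β r) := by
  have h := ConcreteCategory.congr_hom (Scheme.ΓSpecIso_inv_naturality (CommRingCat.ofHom β)) r
  rw [io_def, io_def]
  refine Eq.trans ?_ h.symm
  simp [Scheme.Hom.appLE, Scheme.Hom.appTop]
  rfl

theorem appLE_pt {k : F.κ} {R : Type u} [CommRing R] [Algebra Γ(S, V) R] (α : F.B k →ₐ[Γ(S, V)] R) (c : F.B k) :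
    (F.pt α).appLE (F.P k) ⊤ (F.pt_le α) c = io R (α c) := by
  have : ∀ (g : Spec (CommRingCat.of R) ⟶ X (F.ix k)), g = Spec.map (CommRingCat.ofHom α.toRingHom) ≫ (F.hP k).fromSpec →
      ∀ e, g.appLE (F.P k) ⊤ e c = io R (α c) := by
    rintro g rfl e
    rw [io_def]
    exact ConcreteCategory.congr_hom (QcDesc1.fromSpec_appLE (F.hP k) (CommRingCat.ofHom α.toRingHom) e) c
  exact this _ (Fam.pt_def F α) _

/-- Multiplication of sections by functions. -/
def sm {R : Type u} [CommRing R] {G : (Spec (CommRingCat.of R)).Modules} (r : R) (s : Γ(G, ⊤)) : Γ(G, ⊤) := io R r • s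

section Sm

variable {R R' : Type u} [CommRing R] [CommRing R'] {G G' : (Spec (CommRingCat.of R)).Modules}

theorem sm_eq (r : R) (s : Γ(G, ⊤)) : sm r s = io R r • s := rfl

theorem sm_add_left (a b : R) (s : Γ(G, ⊤)) : sm (a + b) s = sm a s + sm b s := by
  rw [sm, map_add, add_smul]; rfl

theorem sm_add (a : R) (s t : Γ(G, ⊤)) : sm a (s + t) = sm a s + sm a t := smul_add _ _ _

theorem sm_sm (a b : R) (s : Γ(G, ⊤)) : sm a (sm b s) = sm (a * b) s := by
  rw [sm, sm, sm, map_mul, mul_smul]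

theorem sm_one (s : Γ(G, ⊤)) : sm (1 : R) s = s := by rw [sm, map_one, one_smul]

theorem sm_zero (a : R) : sm a (0 : Γ(G, ⊤)) = 0 := smul_zero _

theorem sm_sub (a : R) (s t : Γ(G, ⊤)) : sm a (s - t) = sm a s - sm a t := smul_sub _ _ _

theorem app_sm (φ : G ⟶ G') (a : R) (s : Γ(G, ⊤)) : φ.app ⊤ (sm a s) = sm a (φ.app ⊤ s) :=
  Scheme.Modules.Hom.app_smul φ _ _

theorem pushSec_sm {X : Scheme.{u}} (f : Spec (CommRingCat.of R) ⟶ X) (β : R →+* R') (q : Spec (CommRingCat.of R') ⟶ X)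
    (h : Spec.map (CommRingCat.ofHom β) ≫ f = q) (M : X.Modules) (r : R)
    (s : Γ((Scheme.Modules.pullback f).obj M, ⊤)) :
    pushSec f (Spec.map (CommRingCat.ofHom β)) q h M (le_top_preimage _) (sm r s) =
      sm (β r) (pushSec f (Spec.map (CommRingCat.ofHom β)) q h M (le_top_preimage _) s) := by
  rw [sm, pushSec_smul, appLE_SpecMap]
  rfl

theorem pullSec_sm {X : Scheme.{u}} (f : Spec (CommRingCat.of R) ⟶ X) (M : X.Modules) {P : X.Opens}
    (e : ⊤ ≤ f ⁻¹ᵁ P) (c : Γ(X, P)) (r : R) (hr : f.appLE P ⊤ e c = io R r) (n : Γ(M, P)) :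
    pullSec f M e (c • n) = sm r (pullSec f M e n) := by
  rw [QCoh.pullSec_smul, hr]
  rfl

end Sm

section Sec

/-- The module on a chart. -/
abbrev ob (i : ι) : (X i).Modules := D.M i

variable {R : Type u} [CommRing R] [Algebra Γ(S, V) R]

/-- Sections over a point of a chart. -/
abbrev Sec {k : F.κ} (α : F.B k →ₐ[Γ(S, V)] R) : Type u :=
  Γ((Scheme.Modules.pullback (F.pt α)).obj (ob D (F.ix k)), ⊤)

/-- Sections on a chart. -/
abbrev N (k : F.κ) : Type u := Γ(ob D (F.ix k), F.P k)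

instance instModSec {k : F.κ} (α : F.B k →ₐ[Γ(S, V)] R) : Module Γ(S, V) (Sec F D α) :=
  Module.compHom _ ((io R).toRingHom.comp (algebraMap Γ(S, V) R))

instance instModN (k : F.κ) : Module Γ(S, V) (N F D k) :=
  Module.compHom _ (algebraMap Γ(S, V) (F.B k))

instance instTowerN (k : F.κ) : IsScalarTower Γ(S, V) (F.B k) (N F D k) :=
  IsScalarTower.of_algebraMap_smul fun _ _ => rfl

theorem smul_sec {k : F.κ} (α : F.B k →ₐ[Γ(S, V)] R) (a : Γ(S, V)) (s : Sec F D α) :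
    a • s = sm (algebraMap Γ(S, V) R a) s := rfl

theorem smul_N {k : F.κ} (a : Γ(S, V)) (n : N F D k) : a • n = algebraMap Γ(S, V) (F.B k) a • n := rfl

/-- Evaluation of a section at a point. -/
abbrev ev {k : F.κ} (α : F.B k →ₐ[Γ(S, V)] R) : N F D k →+ Sec F D α :=
  pullSec (F.pt α) _ (F.pt_le α)

theorem ev_smul {k : F.κ} (α : F.B k →ₐ[Γ(S, V)] R) (c : F.B k) (n : N F D k) :
    ev F D α (c • n) = sm (α c) (ev F D α n) :=
  pullSec_sm (F.pt α) _ (F.pt_le α) c (α c) (appLE_pt F α c) n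

/-- The gluing morphism between two points. -/
abbrev trHom {k l : F.κ} (α : F.B k →ₐ[Γ(S, V)] R) (α' : F.B l →ₐ[Γ(S, V)] R) :
    (Scheme.Modules.pullback (F.pt α)).obj (ob D (F.ix k)) ⟶ (Scheme.Modules.pullback (F.pt α')).obj (ob D (F.ix l)) :=
  D.hom (F.base R) (F.pt α) (F.pt α') (F.pt_f α) (F.pt_f α')

/-- Transport between two points. -/
abbrev tr {k l : F.κ} (α : F.B k →ₐ[Γ(S, V)] R) (α' : F.B l →ₐ[Γ(S, V)] R) : Sec F D α →+ Sec F D α' :=
  (Scheme.Modules.Hom.app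
    (trHom F D α α') ⊤).hom

theorem tr_smul {k l : F.κ} (α : F.B k →ₐ[Γ(S, V)] R) (α' : F.B l →ₐ[Γ(S, V)] R) (r : R) (s : Sec F D α) :
    tr F D α α' (sm r s) = sm r (tr F D α α' s) :=
  app_sm (trHom F D α α') r s

theorem tr_self {k : F.κ} (α : F.B k →ₐ[Γ(S, V)] R) (s : Sec F D α) : tr F D α α s = s :=
  have h : trHom F D α α = 𝟙 _ := D.self (F.base R) (F.pt α) (F.pt_f α)
  congr($(h).app ⊤ s)

theorem tr_tr {k l m : F.κ} (α : F.B k →ₐ[Γ(S, V)] R) (α' : F.B l →ₐ[Γ(S, V)] R) (α'' : F.B m →ₐ[Γ(S, V)] R)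
    (s : Sec F D α) : tr F D α' α'' (tr F D α α' s) = tr F D α α'' s :=
  have h : trHom F D α α' ≫ trHom F D α' α'' = trHom F D α α'' :=
    D.comp (F.base R) (F.pt α) (F.pt α') (F.pt α'') (F.pt_f α) (F.pt_f α') (F.pt_f α'')
  congr($(h).app ⊤ s)

variable {R' : Type u} [CommRing R'] [Algebra Γ(S, V) R'] (β : R →ₐ[Γ(S, V)] R')

/-- Pushing sections along a change of rings. -/
def push {k : F.κ} (α : F.B k →ₐ[Γ(S, V)] R) : Sec F D α →+ Sec F D (β.comp α) :=
  pushSec (F.pt α) (Spec.map (CommRingCat.ofHom β.toRingHom)) (F.pt (β.comp α)) (F.comp_pt β α)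
    (ob D (F.ix k)) (le_top_preimage _)

theorem push_eq {k : F.κ} (α : F.B k →ₐ[Γ(S, V)] R) :
    push F D β α = pushSec (F.pt α) (Spec.map (CommRingCat.ofHom β.toRingHom)) (F.pt (β.comp α)) (F.comp_pt β α)
      (ob D (F.ix k)) (le_top_preimage _) := rfl

theorem push_smul {k : F.κ} (α : F.B k →ₐ[Γ(S, V)] R) (r : R) (s : Sec F D α) :
    push F D β α (sm r s) = sm (β r) (push F D β α s) := by
  rw [push_eq]
  have h : β r = β.toRingHom r := rfl
  rw [h]
  exact pushSec_sm (F.pt α) β.toRingHom (F.pt (β.comp α)) (F.comp_pt β α) (ob D (F.ix k)) r s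

theorem push_ev {k : F.κ} (α : F.B k →ₐ[Γ(S, V)] R) (n : N F D k) :
    push F D β α (ev F D α n) = ev F D (β.comp α) n := by
  rw [push_eq]
  exact pushSec_pullSec (F.pt α) (Spec.map (CommRingCat.ofHom β.toRingHom)) (F.pt (β.comp α)) (F.comp_pt β α)
    (ob D (F.ix k)) (le_top_preimage _) (F.pt_le α) (F.pt_le (β.comp α)) n

theorem push_tr {k l : F.κ} (α : F.B k →ₐ[Γ(S, V)] R) (α' : F.B l →ₐ[Γ(S, V)] R) (s : Sec F D α) :
    push F D β α' (tr F D α α' s) = tr F D (β.comp α) (β.comp α') (push F D β α s) := by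
  rw [push_eq, push_eq]
  exact pushSec_natural (F.pt α) (Spec.map (CommRingCat.ofHom β.toRingHom)) (F.pt (β.comp α)) (F.comp_pt β α)
    (ob D (F.ix k)) (le_top_preimage _) (F.pt α') (F.pt (β.comp α')) (F.comp_pt β α') (ob D (F.ix l))
    (trHom F D α α') (trHom F D (β.comp α) (β.comp α'))
    (D.nat _ (F.base R) (F.base R') (F.comp_base β) (F.pt α) (F.pt α') (F.pt_f α) (F.pt_f α')
      (F.pt (β.comp α)) (F.pt (β.comp α')) (F.comp_pt β α) (F.comp_pt β α') (F.pt_f _) (F.pt_f _)) s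

end Sec

end GrothLib.QcEff29
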