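import Groth.Agent.Lib.QcEff29.Rel
import Groth.Agent.Lib.IdealModSec.Basic

/-!
# The module glued from a descent datum
-/

set_option autoImplicit false
universe u

open CategoryTheory CategoryTheory.Limits AlgebraicGeometry Opposite TopologicalSpace
open GrothLib.QCoh (pullSec)
open GrothLib.InvExt (mres)

set_option backward.isDefEq.respectTransparency false

noncomputable section

namespace GrothLib.QcEff29

variable {S : Scheme.{u}}

theorem le_pre {X' W : Scheme.{u}} {f' : X' ⟶ S} {g : W ⟶ X'} {q : W ⟶ S} (h : g ≫ f' = q) (U : S.Opens) :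
    q ⁻¹ᵁ U ≤ g ⁻¹ᵁ (f' ⁻¹ᵁ U) := by
  subst h
  exact le_rfl

theorem appLE_pre {X' W : Scheme.{u}} {f' : X' ⟶ S} {g : W ⟶ X'} {q : W ⟶ S} (h : g ≫ f' = q) (U : S.Opens)
    (r : Γ(S, U)) : g.appLE (f' ⁻¹ᵁ U) (q ⁻¹ᵁ U) (le_pre h U) (f'.app U r) = q.app U r := by
  subst h
  simp only [Scheme.Hom.app_eq_appLE]
  exact ConcreteCategory.congr_hom (Scheme.Hom.appLE_comp_appLE g f' U (f' ⁻¹ᵁ U) ((g ≫ f') ⁻¹ᵁ U) le_rfl le_rfl) r

/-- The map of direct images induced by a map out of an inverse image. -/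
def transMap {X' W : Scheme.{u}} (f' : X' ⟶ S) (g : W ⟶ X') (q : W ⟶ S) (h : g ≫ f' = q) (M : X'.Modules)
    (G : W.Modules) (ψ : (Scheme.Modules.pullback g).obj M ⟶ G) :
    (Scheme.Modules.pushforward f').obj M ⟶ (Scheme.Modules.pushforward q).obj G :=
  let T : ((Scheme.Modules.pushforward f').obj M).presheaf ⟶ ((Scheme.Modules.pushforward q).obj G).presheaf :=
    { app := fun U => AddCommGrpCat.ofHom
        ((ψ.app (q ⁻¹ᵁ U.unop)).hom.comp (pullSec g M (le_pre h U.unop)))
      naturality := fun U U' i => ConcreteCategory.hom_ext _ _ fun a => by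
        show ψ.app (q ⁻¹ᵁ U'.unop) (pullSec g M (le_pre h U'.unop) (mres M (f'.preimage_mono i.unop.le) a)) =
          mres G (q.preimage_mono i.unop.le) (ψ.app (q ⁻¹ᵁ U.unop) (pullSec g M (le_pre h U.unop) a))
        rw [← FundIso27.pullSec_mres g M (le_pre h U.unop) (le_pre h U'.unop) (f'.preimage_mono i.unop.le)
          (q.preimage_mono i.unop.le) a]
        exact EtQc13.app_map ψ (homOfLE (q.preimage_mono i.unop.le)) _ }
  ⟨PresheafOfModules.homMk T fun U r a => by
    show ψ.app (q ⁻¹ᵁ U.unop) (pullSec g M (le_pre h U.unop) (f'.app U.unop r • (show Γ(M, f' ⁻¹ᵁ U.unop) from a))) =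
      q.app U.unop r • ψ.app (q ⁻¹ᵁ U.unop) (pullSec g M (le_pre h U.unop) a)
    rw [QCoh.pullSec_smul, Scheme.Modules.Hom.app_smul, appLE_pre h]⟩

theorem transMap_app {X' W : Scheme.{u}} (f' : X' ⟶ S) (g : W ⟶ X') (q : W ⟶ S) (h : g ≫ f' = q) (M : X'.Modules)
    (G : W.Modules) (ψ : (Scheme.Modules.pullback g).obj M ⟶ G) (U : S.Opens) (x : Γ(M, f' ⁻¹ᵁ U)) :
    (transMap f' g q h M G ψ).app U x = ψ.app (q ⁻¹ᵁ U) (pullSec g M (le_pre h U) x) := rfl

variable {ι : Type u} {X : ι → Scheme.{u}} {f : ∀ i, X i ⟶ S} (D : Datum f)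

/-- The projection of a double overlap to the base. -/
abbrev q2 (p : ι × ι) : pullback (f p.1) (f p.2) ⟶ S := pullback.snd (f p.1) (f p.2) ≫ f p.2

/-- The product of the direct images. -/
abbrev piPush : S.Modules := ∏ᶜ fun i => (Scheme.Modules.pushforward (f i)).obj (D.M i)

/-- The direct image from a double overlap. -/
abbrev tgt (p : ι × ι) : S.Modules :=
  (Scheme.Modules.pushforward (q2 (f := f) p)).obj ((Scheme.Modules.pullback (pullback.snd (f p.1) (f p.2))).obj (D.M p.2))

/-- The obstruction on a double overlap. -/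
def obst (p : ι × ι) : piPush D ⟶ tgt D p :=
  Pi.π _ p.1 ≫ transMap (f p.1) (pullback.fst (f p.1) (f p.2)) (q2 p) pullback.condition (D.M p.1) _
      (D.hom (q2 p) (pullback.fst (f p.1) (f p.2)) (pullback.snd (f p.1) (f p.2)) pullback.condition rfl) -
    Pi.π _ p.2 ≫ transMap (f p.2) (pullback.snd (f p.1) (f p.2)) (q2 p) rfl (D.M p.2) _ (𝟙 _)

/-- The glued module. -/
def glued : S.Modules := kernel (Pi.lift fun p : ι × ι => obst D p)

/-- The projections of the glued module. -/
def proj (i : ι) : glued D ⟶ (Scheme.Modules.pushforward (f i)).obj (D.M i) :=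
  kernel.ι _ ≫ Pi.π _ i

/-- The sections of the glued module on a chart. -/
def sec {U : S.Opens} (i : ι) : Γ(glued D, U) →+ Γ(D.M i, f i ⁻¹ᵁ U) :=
  ((proj D i).app U).hom

theorem sec_mres {U U' : S.Opens} (hU : U' ≤ U) (z : Γ(glued D, U)) (i : ι) :
    sec D i (mres (glued D) hU z) = mres (D.M i) ((f i).preimage_mono hU) (sec D i z) :=
  EtQc13.app_map (proj D i) (homOfLE hU) z

theorem sec_smul {U : S.Opens} (r : Γ(S, U)) (z : Γ(glued D, U)) (i : ι) :
    sec D i (r • z) = (f i).app U r • sec D i z :=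
  Scheme.Modules.Hom.app_smul (proj D i) r z

theorem exists_pi {κ : Type u} (G : κ → S.Modules) (U : S.Opens) (x : ∀ k, Γ(G k, U)) :
    ∃ z : Γ(∏ᶜ G, U), ∀ k, (Pi.π G k).app U z = x k := by
  let Ev := Scheme.Modules.toPresheaf S ⋙ (evaluation _ _).obj (op U) ⋙ forget AddCommGrpCat.{u}
  haveI : PreservesLimits ((evaluation (Opens S)ᵒᵖ Ab.{u}).obj (op U)) := inferInstance
  haveI : PreservesLimits Ev := comp_preservesLimits _ _
  have hl := isLimitOfPreserves Ev (productIsProduct G)
  let sect : (Discrete.functor G ⋙ Ev).sections :=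
    ⟨fun k => x k.as, fun {a b} g => by
      obtain ⟨a⟩ := a; obtain ⟨b⟩ := b
      obtain rfl : a = b := Discrete.eq_of_hom g
      rw [Subsingleton.elim g (𝟙 _), CategoryTheory.Functor.map_id]
      rfl⟩
  exact ⟨(Types.isLimitEquivSections hl).symm sect, fun k => Types.isLimitEquivSections_symm_apply hl sect ⟨k⟩⟩

theorem pi_ext_sections {κ : Type u} (G : κ → S.Modules) (U : S.Opens) {z z' : Γ(∏ᶜ G, U)}
    (hz : ∀ k, (Pi.π G k).app U z = (Pi.π G k).app U z') : z = z' := by
  let Ev := Scheme.Modules.toPresheaf S ⋙ (evaluation _ _).obj (op U) ⋙ forget AddCommGrpCat.{u}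
  haveI : PreservesLimits ((evaluation (Opens S)ᵒᵖ Ab.{u}).obj (op U)) := inferInstance
  haveI : PreservesLimits Ev := comp_preservesLimits _ _
  have hl := isLimitOfPreserves Ev (productIsProduct G)
  exact (Types.isLimitEquivSections hl).injective (Subtype.ext (funext fun k => hz k.as))

/-- Compatibility of a family of sections. -/
def Compat (U : S.Opens) (x : ∀ i, Γ(D.M i, f i ⁻¹ᵁ U)) : Prop :=
  ∀ p : ι × ι, RelAt D (pullback.fst (f p.1) (f p.2)) (pullback.snd (f p.1) (f p.2)) pullback.condition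
    (T := q2 p ⁻¹ᵁ U) (le_pre pullback.condition U) (le_pre rfl U) (x p.1) (x p.2)

theorem obst_app (p : ι × ι) (U : S.Opens) (z : Γ(piPush D, U)) :
    (obst D p).app U z =
      (transMap (f p.1) (pullback.fst (f p.1) (f p.2)) (q2 p) pullback.condition (D.M p.1) _
        (D.hom (q2 p) (pullback.fst (f p.1) (f p.2)) (pullback.snd (f p.1) (f p.2)) pullback.condition rfl)).app U
          ((Pi.π (fun i => (Scheme.Modules.pushforward (f i)).obj (D.M i)) p.1).app U z) -
      (transMap (f p.2) (pullback.snd (f p.1) (f p.2)) (q2 p) rfl (D.M p.2) _ (𝟙 _)).app U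
          ((Pi.π (fun i => (Scheme.Modules.pushforward (f i)).obj (D.M i)) p.2).app U z) := rfl

theorem compat_sec {U : S.Opens} (z : Γ(glued D, U)) : Compat D U fun i => sec D i z := fun p => by
  have h0 : (kernel.ι (Pi.lift fun p : ι × ι => obst D p) ≫ obst D p) = 0 := by
    rw [← Pi.lift_π (fun p : ι × ι => obst D p) p, ← Category.assoc, kernel.condition, zero_comp]
  have h1 : (obst D p).app U ((kernel.ι (Pi.lift fun p : ι × ι => obst D p)).app U z) = 0 := congr($(h0).app U z)
  rw [obst_app, sub_eq_zero, transMap_app, transMap_app] at h1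
  exact h1

theorem existsUnique_sec {U : S.Opens} (x : ∀ i, Γ(D.M i, f i ⁻¹ᵁ U)) (hx : Compat D U x) :
    ∃! z : Γ(glued D, U), ∀ i, sec D i z = x i := by
  obtain ⟨w, hw⟩ := exists_pi (fun i => (Scheme.Modules.pushforward (f i)).obj (D.M i)) U x
  have hk : (Pi.lift fun p : ι × ι => obst D p).app U w = 0 := by
    refine pi_ext_sections _ U fun p => ?_
    rw [map_zero]
    have h2 : (Pi.π (tgt D) p).app U ((Pi.lift fun p : ι × ι => obst D p).app U w) = (obst D p).app U w :=
      congr($(Pi.lift_π (fun p : ι × ι => obst D p) p).app U w)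
    refine h2.trans ?_
    rw [obst_app, sub_eq_zero, hw, hw, transMap_app, transMap_app]
    exact hx p
  obtain ⟨hinj, hex⟩ := IdealModSec.app_kernel (Pi.lift fun p : ι × ι => obst D p) U
  obtain ⟨z, hz⟩ := hex w hk
  have hzi : ∀ i, sec D i z = x i := fun i => (congrArg _ hz).trans (hw i)
  exact ⟨z, hzi, fun z' hz' => hinj (pi_ext_sections _ U fun i => (hz' i).trans (hzi i).symm)⟩

theorem sec_ext {U : S.Opens} {z z' : Γ(glued D, U)} (h : ∀ i, sec D i z = sec D i z') : z = z' :=
  (existsUnique_sec D _ (compat_sec D z')).unique h fun _ => rfl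

end GrothLib.QcEff29
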