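import Groth.Agent.Lib.QcEff29.Key
import Groth.Agent.Lib.QcEff29.Glob

/-!
# Sections of the glued module on affine opens
-/

set_option autoImplicit false
universe u

open CategoryTheory CategoryTheory.Limits AlgebraicGeometry Opposite TopologicalSpace TensorProduct
open GrothLib.QCoh (pullSec)
open GrothLib.InvExt (mres)

set_option backward.isDefEq.respectTransparency false

noncomputable section

namespace GrothLib.QcEff29

variable {ι : Type u} {S : Scheme.{u}} {X : ι → Scheme.{u}} {f : ∀ i, X i ⟶ S} {V : S.Opens}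

theorem Compat.relAt {D : Datum f} {U : S.Opens} {x : ∀ i, Γ(D.M i, f i ⁻¹ᵁ U)} (hx : Compat D U x) {W : Scheme.{u}}
    {i j : ι} (g₁ : W ⟶ X i) (g₂ : W ⟶ X j) (h : g₁ ≫ f i = g₂ ≫ f j) {P : (X i).Opens} {Q : (X j).Opens}
    (hP : P ≤ f i ⁻¹ᵁ U) (hQ : Q ≤ f j ⁻¹ᵁ U) {T : W.Opens} (e₁ : T ≤ g₁ ⁻¹ᵁ P) (e₂ : T ≤ g₂ ⁻¹ᵁ Q) :
    RelAt D g₁ g₂ h e₁ e₂ (mres _ hP (x i)) (mres _ hQ (x j)) := by
  have e₁' : T ≤ g₁ ⁻¹ᵁ (f i ⁻¹ᵁ U) := e₁.trans (g₁.preimage_mono hP)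
  have e₂' : T ≤ g₂ ⁻¹ᵁ (f j ⁻¹ᵁ U) := e₂.trans (g₂.preimage_mono hQ)
  have e : T ≤ pullback.lift g₁ g₂ h ⁻¹ᵁ (q2 (f := f) (i, j) ⁻¹ᵁ U) := by
    refine e₂'.trans ?_
    rw [← Scheme.Hom.comp_preimage, ← Scheme.Hom.comp_preimage, pullback.lift_snd_assoc]
  exact ((hx (i, j)).pre (pullback.lift g₁ g₂ h) (pullback.lift_fst _ _ _) (pullback.lift_snd _ _ _) h e e₁' e₂').mono
    hP hQ le_rfl e₁ e₂

theorem RelAt.of_mres {D : Datum f} {W : Scheme.{u}} {i j : ι} {g₁ : W ⟶ X i} {g₂ : W ⟶ X j}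
    {h : g₁ ≫ f i = g₂ ≫ f j} {P P' : (X i).Opens} {Q Q' : (X j).Opens} (hP : P' ≤ P) (hQ : Q' ≤ Q) {T : W.Opens}
    (e₁ : T ≤ g₁ ⁻¹ᵁ P) (e₂ : T ≤ g₂ ⁻¹ᵁ Q) (e₁' : T ≤ g₁ ⁻¹ᵁ P') (e₂' : T ≤ g₂ ⁻¹ᵁ Q') {a : Γ(D.M i, P)}
    {b : Γ(D.M j, Q)} (hr : RelAt D g₁ g₂ h e₁' e₂' (mres _ hP a) (mres _ hQ b)) : RelAt D g₁ g₂ h e₁ e₂ a b := by
  rw [RelAt, ← FundIso27.pullSec_mres g₁ (D.M i) e₁ e₁' hP le_rfl a, ← FundIso27.pullSec_mres g₂ (D.M j) e₂ e₂' hQ le_rfl b,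
    InvExt.mres_self, InvExt.mres_self] at hr
  exact hr

theorem appLE_congr_hom {Z : Scheme.{u}} {W : Scheme.{u}} {u v : W ⟶ Z} (huv : u = v) {O : Z.Opens} {T : W.Opens}
    (e : T ≤ u ⁻¹ᵁ O) (e' : T ≤ v ⁻¹ᵁ O) : u.appLE O T e = v.appLE O T e' := by
  subst huv; rfl

variable {F : Fam f V} {D : Datum f}

theorem relAt_iff_tr {R : Type u} [CommRing R] [Algebra Γ(S, V) R] {k l : F.κ} (α : F.B k →ₐ[Γ(S, V)] R)
    (α' : F.B l →ₐ[Γ(S, V)] R) (h : F.pt α ≫ f (F.ix k) = F.pt α' ≫ f (F.ix l)) (a : N F D k) (b : N F D l) :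
    RelAt D (F.pt α) (F.pt α') h (F.pt_le α) (F.pt_le α') a b ↔ tr F D α α' (ev F D α a) = ev F D α' b :=
  relAt_iff D (F.pt α) (F.pt α') h (F.pt_le α) (F.pt_le α') (F.base R) (F.pt_f α) (F.pt_f α') a b

theorem relAt_of_mem {z : ∀ k, N F D k} (hz : z ∈ E F D) (k l : F.κ) {W : Scheme.{u}} (g₁ : W ⟶ X (F.ix k))
    (g₂ : W ⟶ X (F.ix l)) (h : g₁ ≫ f (F.ix k) = g₂ ≫ f (F.ix l)) {T : W.Opens} (hT : IsAffineOpen T)
    (e₁ : T ≤ g₁ ⁻¹ᵁ F.P k) (e₂ : T ≤ g₂ ⁻¹ᵁ F.P l) : RelAt D g₁ g₂ h e₁ e₂ (z k) (z l) := by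
  have e3 : T ≤ (g₂ ≫ f (F.ix l)) ⁻¹ᵁ V := e₂.trans (g₂.preimage_mono (F.hle l))
  have e3' : T ≤ (g₁ ≫ f (F.ix k)) ⁻¹ᵁ V := e₁.trans (g₁.preimage_mono (F.hle k))
  letI : Algebra Γ(S, V) Γ(W, T) := ((g₂ ≫ f (F.ix l)).appLE V T e3).hom.toAlgebra
  let α : F.B k →ₐ[Γ(S, V)] Γ(W, T) :=
    ⟨(g₁.appLE (F.P k) T e₁).hom, fun a => (ConcreteCategory.congr_hom
      (Scheme.Hom.appLE_comp_appLE g₁ (f (F.ix k)) V (F.P k) T (F.hle k) e₁) a).trans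
      (ConcreteCategory.congr_hom (appLE_congr_hom h e3' e3) a)⟩
  let α' : F.B l →ₐ[Γ(S, V)] Γ(W, T) :=
    ⟨(g₂.appLE (F.P l) T e₂).hom, fun a => ConcreteCategory.congr_hom
      (Scheme.Hom.appLE_comp_appLE g₂ (f (F.ix l)) V (F.P l) T (F.hle l) e₂) a⟩
  have p₁ : F.pt α = hT.fromSpec ≫ g₁ := by
    rw [Fam.pt_def]
    exact (F.hP k).SpecMap_appLE_fromSpec g₁ hT e₁
  have p₂ : F.pt α' = hT.fromSpec ≫ g₂ := by
    rw [Fam.pt_def]
    exact (F.hP l).SpecMap_appLE_fromSpec g₂ hT e₂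
  have h0 : F.pt α ≫ f (F.ix k) = F.pt α' ≫ f (F.ix l) := (F.pt_f α).trans (F.pt_f α').symm
  have h' : (hT.fromSpec ≫ g₁) ≫ f (F.ix k) = (hT.fromSpec ≫ g₂) ≫ f (F.ix l) := by rw [← p₁, ← p₂, h0]
  have s₁ : (⊤ : (Spec Γ(W, T)).Opens) ≤ (hT.fromSpec ≫ g₁) ⁻¹ᵁ F.P k := fun _ _ => e₁ (hT.range_fromSpec.le ⟨_, rfl⟩)
  have s₂ : (⊤ : (Spec Γ(W, T)).Opens) ≤ (hT.fromSpec ≫ g₂) ⁻¹ᵁ F.P l := fun _ _ => e₂ (hT.range_fromSpec.le ⟨_, rfl⟩)
  refine relAt_of_fromSpec hT h' s₁ s₂ ?_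
  exact (relAt_congr D (F.pt α) (F.pt α') h0 (F.pt_le α) (F.pt_le α') p₁ p₂ h' s₁ s₂ (z k) (z l)).1
    ((relAt_iff_tr α α' h0 (z k) (z l)).2 (compat F D hz α α'))

theorem mem_E_of_relAt {z : ∀ k, N F D k}
    (hz : ∀ k l {W : Scheme.{u}} (g₁ : W ⟶ X (F.ix k)) (g₂ : W ⟶ X (F.ix l))
      (h : g₁ ≫ f (F.ix k) = g₂ ≫ f (F.ix l)) {T : W.Opens} (_ : IsAffineOpen T) (e₁ : T ≤ g₁ ⁻¹ᵁ F.P k)
      (e₂ : T ≤ g₂ ⁻¹ᵁ F.P l), RelAt D g₁ g₂ h e₁ e₂ (z k) (z l)) : z ∈ E F D :=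
  (mem_E F D).2 fun k l => (relAt_iff_tr (iL F k l) (iR F k l) ((F.pt_f _).trans (F.pt_f _).symm) (z k) (z l)).1
    (hz k l _ _ _ (isAffineOpen_top _) (F.pt_le _) (F.pt_le _))

variable (F) in
/-- Restriction of a family of sections to the charts. -/
def res (x : ∀ i, Γ(D.M i, f i ⁻¹ᵁ V)) : ∀ k, N F D k := fun k => mres (D.M (F.ix k)) (F.hle k) (x (F.ix k))

theorem res_mem {x : ∀ i, Γ(D.M i, f i ⁻¹ᵁ V)} (hx : Compat D V x) : res F x ∈ E F D :=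
  mem_E_of_relAt fun k l _ g₁ g₂ h _ _ e₁ e₂ => hx.relAt g₁ g₂ h (F.hle k) (F.hle l) e₁ e₂

variable (F) in
/-- Adding a chart. -/
abbrev Fam.add (i : ι) (Q : (X i).Opens) (hQ : IsAffineOpen Q) (hle : Q ≤ f i ⁻¹ᵁ V) : Fam f V where
  hV := F.hV
  κ := Option F.κ
  fin := haveI := F.fin; inferInstance
  ix o := o.elim i F.ix
  P o := match o with | none => Q | some k => F.P k
  hP o := match o with | none => hQ | some k => F.hP k
  hle o := match o with | none => hle | some k => F.hle k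
  hcov v hv := let ⟨k, hk⟩ := F.hcov v hv; ⟨some k, hk⟩

variable (F D) in
/-- Forgetting an added chart. -/
def rE (i : ι) (Q : (X i).Opens) (hQ : IsAffineOpen Q) (hle : Q ≤ f i ⁻¹ᵁ V) :
    E (F.add i Q hQ hle) D →ₗ[Γ(S, V)] E F D where
  toFun w := ⟨fun k => w.1 (some k), mem_E_of_relAt fun k l _ g₁ g₂ h _ hT e₁ e₂ =>
    relAt_of_mem w.2 (some k) (some l) g₁ g₂ h hT e₁ e₂⟩
  map_add' _ _ := rfl
  map_smul' _ _ := rfl

theorem Psi_rE (i : ι) (Q : (X i).Opens) (hQ : IsAffineOpen Q) (hle : Q ≤ f i ⁻¹ᵁ V) (m : F.κ)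
    (t : F.B m ⊗[Γ(S, V)] E (F.add i Q hQ hle) D) :
    Psi F D m ((rE F D i Q hQ hle).lTensor (F.B m) t) = Psi (F.add i Q hQ hle) D (some m) t := by
  induction t using TensorProduct.induction_on with
  | zero => simp only [map_zero]
  | tmul b w => rfl
  | add a b ha hb => simp only [map_add, ha, hb]

variable (hflat : ∀ i, Flat (f i))

include hflat

theorem flat_B (k : F.κ) : Module.Flat Γ(S, V) (F.B k) :=
  haveI := hflat (F.ix k)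
  HasRingHomProperty.appLE @Flat (f (F.ix k)) inferInstance ⟨V, F.hV⟩ ⟨F.P k, F.hP k⟩ (F.hle k)

omit hflat in
theorem surj_spec (p : PrimeSpectrum Γ(S, V)) :
    ∃ k, ∃ q : PrimeSpectrum (F.B k), PrimeSpectrum.comap (algebraMap Γ(S, V) (F.B k)) q = p := by
  obtain ⟨k, x, hx, hxv⟩ := F.hcov (F.hV.fromSpec p) (F.hV.range_fromSpec.le ⟨p, rfl⟩)
  refine ⟨k, (F.hP k).primeIdealOf ⟨x, hx⟩, F.hV.fromSpec.isOpenEmbedding.injective ?_⟩
  have := congrArg (fun m : Spec Γ(X (F.ix k), F.P k) ⟶ S => m ((F.hP k).primeIdealOf ⟨x, hx⟩))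
    (F.hV.SpecMap_appLE_fromSpec (f (F.ix k)) (F.hP k) (F.hle k))
  simp only [Scheme.Hom.comp_apply, (F.hP k).fromSpec_primeIdealOf] at this
  exact this.trans hxv

theorem rE_bijective (i : ι) (Q : (X i).Opens) (hQ : IsAffineOpen Q) (hle : Q ≤ f i ⁻¹ᵁ V) :
    Function.Bijective (rE F D i Q hQ hle) := by
  have hm : ∀ m, Function.Bijective ((rE F D i Q hQ hle).lTensor (F.B m)) := fun m => by
    refine (Function.Bijective.of_comp_iff' (Psi_bijective F D m (flat_B hflat m)) _).1 ?_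
    have e : ⇑(Psi F D m) ∘ ⇑((rE F D i Q hQ hle).lTensor (F.B m)) = ⇑(Psi (F.add i Q hQ hle) D (some m)) :=
      funext fun t => Psi_rE i Q hQ hle m t
    rw [e]
    exact Psi_bijective (F.add i Q hQ hle) D (some m) (flat_B hflat (F := F.add i Q hQ hle) (some m))
  refine ⟨(injective_iff_map_eq_zero _).2 fun w hw => ?_, fun y => ?_⟩
  · refine QcDesc1.eq_zero_of_forall (fun k => flat_B hflat k) surj_spec w fun k => (hm k).1 ?_
    rw [LinearMap.lTensor_tmul, hw, TensorProduct.tmul_zero, map_zero]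
  · refine (Submodule.Quotient.mk_eq_zero (LinearMap.range (rE F D i Q hQ hle))).1
      (QcDesc1.eq_zero_of_forall (A := Γ(S, V)) (B := fun k => F.B k) (fun k => flat_B hflat k) (surj_spec (F := F)) _ fun k => ?_)
    obtain ⟨t, ht⟩ := (hm k).2 ((1 : F.B k) ⊗ₜ y)
    rw [← Submodule.mkQ_apply, ← LinearMap.lTensor_tmul, ← ht, ← LinearMap.comp_apply, ← LinearMap.lTensor_comp,
      LinearMap.range_mkQ_comp, LinearMap.lTensor_zero, LinearMap.zero_apply]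

variable (F) in
/-- The extension of a compatible family to a new chart. -/
def extE (z : E F D) (i : ι) (Q : (X i).Opens) (hQ : IsAffineOpen Q) (hle : Q ≤ f i ⁻¹ᵁ V) :
    E (F.add i Q hQ hle) D :=
  (LinearEquiv.ofBijective _ (rE_bijective (D := D) hflat i Q hQ hle)).symm z

variable (F) in
/-- The value of a compatible family on a new chart. -/
def val (z : E F D) (i : ι) (Q : (X i).Opens) (hQ : IsAffineOpen Q) (hle : Q ≤ f i ⁻¹ᵁ V) : Γ(D.M i, Q) :=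
  (extE F hflat z i Q hQ hle).1 none

theorem extE_some (z : E F D) (i : ι) (Q : (X i).Opens) (hQ : IsAffineOpen Q) (hle : Q ≤ f i ⁻¹ᵁ V) (k : F.κ) :
    (extE F hflat z i Q hQ hle).1 (some k) = z.1 k :=
  congrFun (congrArg Subtype.val ((LinearEquiv.ofBijective _ (rE_bijective (D := D) hflat i Q hQ hle)).apply_symm_apply z)) k

theorem eq_val (z : E F D) (i : ι) (Q : (X i).Opens) (hQ : IsAffineOpen Q) (hle : Q ≤ f i ⁻¹ᵁ V)
    (w : E (F.add i Q hQ hle) D) (hw : ∀ k, w.1 (some k) = z.1 k) : w.1 none = val F hflat z i Q hQ hle := by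
  have : w = extE F hflat z i Q hQ hle :=
    (rE_bijective (D := D) hflat i Q hQ hle).1 (Subtype.ext (funext fun k => (hw k).trans (extE_some hflat z i Q hQ hle k).symm))
  rw [this]
  rfl

theorem val_mono (z : E F D) (i : ι) {Q Q' : (X i).Opens} (hQ : IsAffineOpen Q) (hle : Q ≤ f i ⁻¹ᵁ V)
    (hQ' : IsAffineOpen Q') (hQQ : Q' ≤ Q) :
    mres (D.M i) hQQ (val F hflat z i Q hQ hle) = val F hflat z i Q' hQ' (hQQ.trans hle) := by
  let w := extE F hflat z i Q hQ hle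
  have hw : (fun o : Option F.κ => (match o with
      | none => mres (D.M i) hQQ (w.1 none)
      | some k => w.1 (some k) : N (F.add i Q' hQ' (hQQ.trans hle)) D o)) ∈ E (F.add i Q' hQ' (hQQ.trans hle)) D :=
    mem_E_of_relAt fun o o' => by
      rcases o with _ | k <;> rcases o' with _ | l <;> intro W g₁ g₂ h T hT e₁ e₂
      · exact (relAt_of_mem w.2 none none g₁ g₂ h hT (e₁.trans (g₁.preimage_mono hQQ))
          (e₂.trans (g₂.preimage_mono hQQ))).mono hQQ hQQ le_rfl e₁ e₂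
      · have r := (relAt_of_mem w.2 none (some l) g₁ g₂ h hT (e₁.trans (g₁.preimage_mono hQQ)) e₂).mono hQQ le_rfl le_rfl e₁ e₂
        rwa [InvExt.mres_self] at r
      · have r := (relAt_of_mem w.2 (some k) none g₁ g₂ h hT e₁ (e₂.trans (g₂.preimage_mono hQQ))).mono le_rfl hQQ le_rfl e₁ e₂
        rwa [InvExt.mres_self] at r
      · exact relAt_of_mem w.2 (some k) (some l) g₁ g₂ h hT e₁ e₂
  exact eq_val hflat z i Q' hQ' (hQQ.trans hle) ⟨_, hw⟩ fun k => extE_some hflat z i Q hQ hle k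

theorem val_relAt (z : E F D) {i j : ι} {Q : (X i).Opens} (hQ : IsAffineOpen Q) (hle : Q ≤ f i ⁻¹ᵁ V)
    {Q' : (X j).Opens} (hQ' : IsAffineOpen Q') (hle' : Q' ≤ f j ⁻¹ᵁ V) {W : Scheme.{u}} (g₁ : W ⟶ X i) (g₂ : W ⟶ X j)
    (h : g₁ ≫ f i = g₂ ≫ f j) {T : W.Opens} (hT : IsAffineOpen T) (e₁ : T ≤ g₁ ⁻¹ᵁ Q) (e₂ : T ≤ g₂ ⁻¹ᵁ Q') :
    RelAt D g₁ g₂ h e₁ e₂ (val F hflat z i Q hQ hle) (val F hflat z j Q' hQ' hle') := by
  let w2 := extE (F.add i Q hQ hle) hflat (extE F hflat z i Q hQ hle) j Q' hQ' hle'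
  have h1 : w2.1 (some none) = val F hflat z i Q hQ hle := extE_some (F := F.add i Q hQ hle) hflat (extE F hflat z i Q hQ hle) j Q' hQ' hle' none
  have hw : (fun o : Option F.κ => (match o with
      | none => w2.1 none
      | some k => w2.1 (some (some k)) : N (F.add j Q' hQ' hle') D o)) ∈ E (F.add j Q' hQ' hle') D :=
    mem_E_of_relAt fun o o' => by
      rcases o with _ | k <;> rcases o' with _ | l <;> intro W g₁ g₂ h T hT e₁ e₂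
      · exact relAt_of_mem w2.2 none none g₁ g₂ h hT e₁ e₂
      · exact relAt_of_mem w2.2 none (some (some l)) g₁ g₂ h hT e₁ e₂
      · exact relAt_of_mem w2.2 (some (some k)) none g₁ g₂ h hT e₁ e₂
      · exact relAt_of_mem w2.2 (some (some k)) (some (some l)) g₁ g₂ h hT e₁ e₂
  have h2 : w2.1 none = val F hflat z j Q' hQ' hle' := eq_val hflat z j Q' hQ' hle' ⟨_, hw⟩ fun k =>
    (extE_some (F := F.add i Q hQ hle) hflat (extE F hflat z i Q hQ hle) j Q' hQ' hle' (some k)).trans (extE_some hflat z i Q hQ hle k)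
  rw [← h1, ← h2]
  exact relAt_of_mem w2.2 (some none) none g₁ g₂ h hT e₁ e₂

theorem res_injective {x x' : ∀ i, Γ(D.M i, f i ⁻¹ᵁ V)} (hx : Compat D V x) (hx' : Compat D V x')
    (he : res F x = res F x') : x = x' := funext fun i => by
  refine TopCat.Sheaf.eq_of_locally_eq' ⟨(D.M i).presheaf, (D.M i).isSheaf⟩
    (fun T : {T : (X i).affineOpens // T.1 ≤ f i ⁻¹ᵁ V} => T.1.1) (f i ⁻¹ᵁ V) (fun T => homOfLE T.2) (fun v hv => ?_) _ _
    fun T => ?_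
  · obtain ⟨_, ⟨T, hT, rfl⟩, hvT, hTQ⟩ := (X i).isBasis_affineOpens.exists_subset_of_mem_open hv (f i ⁻¹ᵁ V).2
    exact Opens.mem_iSup.2 ⟨⟨⟨T, hT⟩, hTQ⟩, hvT⟩
  · show mres _ T.2 (x i) = mres _ T.2 (x' i)
    have a := eq_val hflat ⟨_, res_mem hx⟩ i T.1.1 T.1.2 T.2 ⟨_, res_mem (F := F.add i T.1.1 T.1.2 T.2) hx⟩ fun k => rfl
    have b := eq_val hflat ⟨_, res_mem hx⟩ i T.1.1 T.1.2 T.2 ⟨_, res_mem (F := F.add i T.1.1 T.1.2 T.2) hx'⟩
      fun k => (congrFun he k).symm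
    exact a.trans b.symm

theorem res_surjective (z : E F D) : ∃ x, Compat D V x ∧ res F x = z.1 := by
  let I := fun i => {T : (X i).affineOpens // T.1 ≤ f i ⁻¹ᵁ V}
  have hcov : ∀ i, f i ⁻¹ᵁ V ≤ ⨆ T : I i, T.1.1 := fun i v hv => by
    obtain ⟨_, ⟨T, hT, rfl⟩, hvT, hTQ⟩ := (X i).isBasis_affineOpens.exists_subset_of_mem_open hv (f i ⁻¹ᵁ V).2
    exact Opens.mem_iSup.2 ⟨⟨⟨T, hT⟩, hTQ⟩, hvT⟩
  choose x hx using fun i => (TopCat.Sheaf.existsUnique_gluing' ⟨(D.M i).presheaf, (D.M i).isSheaf⟩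
    (fun T : I i => T.1.1) (f i ⁻¹ᵁ V) (fun T => homOfLE T.2) (hcov i)
    (fun T => val F hflat z i T.1.1 T.1.2 T.2) (fun T T' => by
      refine TopCat.Sheaf.eq_of_locally_eq' ⟨(D.M i).presheaf, (D.M i).isSheaf⟩
        (fun O : {O : (X i).affineOpens // O.1 ≤ T.1.1 ⊓ T'.1.1} => O.1.1) (T.1.1 ⊓ T'.1.1) (fun O => homOfLE O.2)
        (fun v hv => ?_) _ _ fun O => ?_
      · obtain ⟨_, ⟨O, hO, rfl⟩, hvO, hOQ⟩ := (X i).isBasis_affineOpens.exists_subset_of_mem_open hv (T.1.1 ⊓ T'.1.1).2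
        exact Opens.mem_iSup.2 ⟨⟨⟨O, hO⟩, hOQ⟩, hvO⟩
      · show mres _ O.2 (mres _ inf_le_left _) = mres _ O.2 (mres _ inf_le_right _)
        rw [InvExt.mres_mres, InvExt.mres_mres]
        exact (val_mono hflat z i T.1.2 T.2 O.1.2 (O.2.trans inf_le_left)).trans
          (val_mono hflat z i T'.1.2 T'.2 O.1.2 (O.2.trans inf_le_right)).symm)).exists
  refine ⟨x, fun p => ?_, funext fun k => ?_⟩
  · let J := {T : (pullback (f p.1) (f p.2)).affineOpens // ∃ (a : I p.1) (b : I p.2),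
      T.1 ≤ pullback.fst (f p.1) (f p.2) ⁻¹ᵁ a.1.1 ⊓ pullback.snd (f p.1) (f p.2) ⁻¹ᵁ b.1.1}
    have hU : ∀ T : J, T.1.1 ≤ q2 p ⁻¹ᵁ V := fun T => by
      obtain ⟨a, b, hab⟩ := T.2
      exact (hab.trans inf_le_right).trans ((pullback.snd (f p.1) (f p.2)).preimage_mono b.2)
    refine relAt_of_local (fun T : J => T.1.1) hU (fun v hv => ?_) fun T => ?_
    · obtain ⟨a, ha⟩ := Opens.mem_iSup.1 (hcov p.1 ((le_pre (f' := f p.1) (g := pullback.fst (f p.1) (f p.2)) (q := q2 p) pullback.condition V) hv))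
      obtain ⟨b, hb⟩ := Opens.mem_iSup.1 (hcov p.2 ((le_pre (f' := f p.2) (g := pullback.snd (f p.1) (f p.2)) (q := q2 p) rfl V) hv))
      obtain ⟨_, ⟨O, hO, rfl⟩, hvO, hOQ⟩ := (pullback (f p.1) (f p.2)).isBasis_affineOpens.exists_subset_of_mem_open
        (show v ∈ pullback.fst (f p.1) (f p.2) ⁻¹ᵁ a.1.1 ⊓ pullback.snd (f p.1) (f p.2) ⁻¹ᵁ b.1.1 from ⟨ha, hb⟩)
        (pullback.fst (f p.1) (f p.2) ⁻¹ᵁ a.1.1 ⊓ pullback.snd (f p.1) (f p.2) ⁻¹ᵁ b.1.1).2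
      exact Opens.mem_iSup.2 ⟨⟨⟨O, hO⟩, a, b, hOQ⟩, hvO⟩
    · obtain ⟨a, b, hab⟩ := T.2
      refine RelAt.of_mres a.2 b.2 _ _ (hab.trans inf_le_left) (hab.trans inf_le_right) ?_
      rw [show mres _ a.2 (x p.1) = _ from hx p.1 a, show mres _ b.2 (x p.2) = _ from hx p.2 b]
      exact val_relAt hflat z a.1.2 a.2 b.1.2 b.2 _ _ _ T.1.2 _ _
  · refine (hx (F.ix k) ⟨⟨F.P k, F.hP k⟩, F.hle k⟩).trans ?_
    have hw : (fun o : Option F.κ => (match o with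
        | none => z.1 k
        | some l => z.1 l : N (F.add (F.ix k) (F.P k) (F.hP k) (F.hle k)) D o)) ∈
          E (F.add (F.ix k) (F.P k) (F.hP k) (F.hle k)) D :=
      mem_E_of_relAt fun o o' => by
        rcases o with _ | a <;> rcases o' with _ | b <;> intro W g₁ g₂ h T hT e₁ e₂
        · exact relAt_of_mem z.2 k k g₁ g₂ h hT e₁ e₂
        · exact relAt_of_mem z.2 k b g₁ g₂ h hT e₁ e₂
        · exact relAt_of_mem z.2 a k g₁ g₂ h hT e₁ e₂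
        · exact relAt_of_mem z.2 a b g₁ g₂ h hT e₁ e₂
    exact (eq_val hflat z (F.ix k) (F.P k) (F.hP k) (F.hle k) ⟨_, hw⟩ fun _ => rfl).symm

end GrothLib.QcEff29
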