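import Groth.Agent.Lib.QcEff29.Base

/-!
# Descent data of modules, spelled out
-/

set_option autoImplicit false
universe u

open CategoryTheory CategoryTheory.Limits AlgebraicGeometry Opposite TopologicalSpace

set_option backward.isDefEq.respectTransparency false

noncomputable section

namespace GrothLib.QcEff29

/-- A descent datum for the pseudofunctor of modules as a `Datum`. -/
def Datum.ofDD {ι : Type u} {S : Scheme.{u}} {X : ι → Scheme.{u}} {f : ∀ i, X i ⟶ S}
    (D : Desc.modPF.{u}.DescentData f) (hD : ∀ i, (D.obj i : (X i).Modules).IsQuasicoherent) : Datum f where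
  M i := D.obj i
  qc := hD
  hom q _ _ g₁ g₂ h₁ h₂ := D.hom q g₁ g₂ h₁ h₂
  nat g q q' hq _ _ g₁ g₂ h₁ h₂ g₁' g₂' e₁ e₂ _ _ := D.pullHom_hom g q q' hq g₁ g₂ h₁ h₂ g₁' g₂' e₁ e₂
  self q _ g h := D.hom_self q g h
  comp q _ _ _ g₁ g₂ g₃ h₁ h₂ h₃ := D.hom_comp q g₁ g₂ g₃ h₁ h₂ h₃

end GrothLib.QcEff29
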