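import Groth.Agent.Lib.QcEff29.Main

/-!
# The glued module realises the descent datum
-/

set_option autoImplicit false
universe u

open CategoryTheory CategoryTheory.Limits AlgebraicGeometry Opposite TopologicalSpace TensorProduct
open GrothLib.QCoh (pullSec sectionsMap)
open GrothLib.InvExt (mres)
open GrothLib.QcDesc1 (cT)

set_option backward.isDefEq.respectTransparency false

noncomputable section

namespace GrothLib.QcEff29

theorem inv_app_hom_app {Y : Scheme.{u}} {M N : Y.Modules} (e : M ≅ N) (U : Y.Opens) (x : Γ(M, U)) :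
    e.inv.app U (e.hom.app U x) = x := congr($(e.hom_inv_id).app U x)

variable {ι : Type u} {S : Scheme.{u}} {X : ι → Scheme.{u}} {f : ∀ i, X i ⟶ S} (D : Datum f)

/-- The comparison map. -/
def compMap (i : ι) : (Scheme.Modules.pullback (f i)).obj (glued D) ⟶ D.M i :=
  ((Scheme.Modules.pullbackPushforwardAdjunction (f i)).homEquiv _ _).symm (proj D i)

theorem compMap_pullSec (i : ι) {U : S.Opens} {P : (X i).Opens} (e : P ≤ f i ⁻¹ᵁ U) (z : Γ(glued D, U)) :
    (compMap D i).app P (pullSec (f i) (glued D) e z) = mres (D.M i) e (sec D i z) := by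
  have h := congrArg (fun φ => Scheme.Modules.Hom.app φ U z)
    ((Adjunction.homEquiv_unit _ _ _ _).symm.trans
      (((Scheme.Modules.pullbackPushforwardAdjunction (f i)).homEquiv _ _).apply_symm_apply (proj D i)))
  exact (EtQc13.app_map (compMap D i) (homOfLE e) _).trans (congrArg (mres (D.M i) e) h)

variable (hf : Presieve.ofArrows X f ∈ Scheme.fpqcPrecoverage S)

include hf

theorem exists_Fam {V : S.Opens} (hV : IsAffineOpen V) : Nonempty (Fam f V) := by
  obtain ⟨κ, hκ, ix, P, hP, hle, hcov⟩ := QcDesc1.exists_fam hf hV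
  exact ⟨⟨hV, κ, hκ, ix, P, hP, hle, hcov⟩⟩

theorem isQuasicoherent_glued : (glued D).IsQuasicoherent := by
  refine QCoh.isQuasicoherent_of_smulLift_of_smulSep (glued D) (fun V : S.affineOpens => V.1) ?_ (fun V => V.2) ?_
  · refine eq_top_iff.2 fun v _ => ?_
    obtain ⟨_, ⟨V, hV, rfl⟩, hv, -⟩ := S.isBasis_affineOpens.exists_subset_of_mem_open (Set.mem_univ v) isOpen_univ
    exact Opens.mem_iSup.2 ⟨⟨V, hV⟩, hv⟩
  · intro V g
    obtain ⟨F⟩ := exists_Fam hf V.2
    exact ⟨smulLift_glued F D (QcDesc1.flat_of_mem hf) g, smulSep_glued F D (QcDesc1.flat_of_mem hf) g⟩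

omit hf in
theorem compMap_sectionsMap {V : S.Opens} (F : Fam f V) (k : F.κ)
    (w : F.B k ⊗[Γ(S, V)] Γ(glued D, V)) :
    (compMap D (F.ix k)).app (F.P k) (sectionsMap (f (F.ix k)) (glued D) (F.hle k) rfl w) =
      Psi F D k ((secFam F D).lTensor (F.B k) w) := by
  induction w using TensorProduct.induction_on with
  | zero => simp only [map_zero]
  | tmul b z =>
    rw [QCoh.sectionsMap_tmul, Scheme.Modules.Hom.app_smul, compMap_pullSec, LinearMap.lTensor_tmul, Psi_tmul,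
      secFam_apply]
  | add a b ha hb => simp only [map_add, ha, hb]

theorem compMap_bijective {V : S.Opens} (F : Fam f V) (k : F.κ) :
    Function.Bijective ((compMap D (F.ix k)).app (F.P k)) := by
  have hflat := QcDesc1.flat_of_mem hf
  haveI := isQuasicoherent_glued D hf
  have hs := QCoh.bijective_sectionsMap (f (F.ix k)) (glued D) (F.hle k) rfl F.hV (F.hP k)
  have hr : Function.Bijective (Psi F D k ∘ (secFam F D).lTensor (F.B k)) :=
    (Psi_bijective F D k (flat_B hflat k)).comp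
      ((LinearEquiv.ofBijective _ (secFam_bijective F D hflat)).lTensor (F.B k)).bijective
  refine ⟨fun a b hab => ?_, fun y => ?_⟩
  · obtain ⟨wa, rfl⟩ := hs.2 a
    obtain ⟨wb, rfl⟩ := hs.2 b
    exact congrArg _ (hr.1 (((compMap_sectionsMap D F k wa).symm.trans hab).trans (compMap_sectionsMap D F k wb)))
  · obtain ⟨w, hw⟩ := hr.2 y
    exact ⟨_, (compMap_sectionsMap D F k w).trans hw⟩

theorem isIso_compMap (i : ι) : IsIso (compMap D i) := by
  have hflat := QcDesc1.flat_of_mem hf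
  haveI := D.qc i
  haveI := isQuasicoherent_glued D hf
  haveI := FittSheaf.isQuasicoherent_pullback (f i) (glued D)
  refine QCoh.isIso_of_bijective_on_cover (compMap D i)
    (fun Q : {Q : (X i).affineOpens // ∃ V : S.affineOpens, Q.1 ≤ f i ⁻¹ᵁ V.1} => Q.1.1) ?_ (fun Q => Q.1.2) fun Q => ?_
  · refine eq_top_iff.2 fun v _ => ?_
    obtain ⟨_, ⟨V, hV, rfl⟩, hv, -⟩ := S.isBasis_affineOpens.exists_subset_of_mem_open (Set.mem_univ (f i v)) isOpen_univ
    obtain ⟨_, ⟨O, hO, rfl⟩, hvO, hOV⟩ := (X i).isBasis_affineOpens.exists_subset_of_mem_open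
      (show v ∈ f i ⁻¹ᵁ V from hv) (f i ⁻¹ᵁ V).2
    exact Opens.mem_iSup.2 ⟨⟨⟨O, hO⟩, ⟨V, hV⟩, hOV⟩, hvO⟩
  · obtain ⟨V, hQV⟩ := Q.2
    obtain ⟨F₀⟩ := exists_Fam hf V.2
    let F := F₀.add i Q.1.1 Q.1.2 hQV
    exact compMap_bijective D hf F none

omit hf in
theorem compMap_comm {W : Scheme.{u}} (q : W ⟶ S) {i j : ι} (g₁ : W ⟶ X i) (g₂ : W ⟶ X j) (h₁ : g₁ ≫ f i = q)
    (h₂ : g₂ ≫ f j = q) :
    (Scheme.Modules.pullback g₁).map (compMap D i) ≫ D.hom q g₁ g₂ h₁ h₂ =
      ((cT (f i) g₁ q h₁ (glued D)).hom ≫ (cT (f j) g₂ q h₂ (glued D)).inv) ≫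
        (Scheme.Modules.pullback g₂).map (compMap D j) := by
  rw [Category.assoc, ← Iso.inv_comp_eq]
  refine FunMor20.pullback_hom_ext fun U z => ?_
  have key : ∀ {l : ι} (g : W ⟶ X l) (hl : g ≫ f l = q),
      ((Scheme.Modules.pullback g).map (compMap D l)).app (q ⁻¹ᵁ U)
        ((cT (f l) g q hl (glued D)).inv.app (q ⁻¹ᵁ U) (pullSec q (glued D) (le_refl _) z)) =
      pullSec g (D.M l) (le_pre hl U) (sec D l z) := by
    intro l g hl
    have a : (cT (f l) g q hl (glued D)).inv.app (q ⁻¹ᵁ U) (pullSec q (glued D) (le_refl _) z) =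
        pullSec g _ (le_pre hl U) (pullSec (f l) (glued D) (le_refl (f l ⁻¹ᵁ U)) z) :=
      (congrArg ((cT (f l) g q hl (glued D)).inv.app (q ⁻¹ᵁ U))
        (QcDesc1.cT_hom_pullSec (f l) g q hl (glued D) (le_refl _) (le_pre hl U) (le_refl _) z).symm).trans
        (inv_app_hom_app (cT (f l) g q hl (glued D)) (q ⁻¹ᵁ U) _)
    refine (congrArg (((Scheme.Modules.pullback g).map (compMap D l)).app (q ⁻¹ᵁ U)) a).trans ?_
    refine (QCoh.pullSec_natural g (compMap D l) (le_pre hl U) _).trans (congrArg _ ?_)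
    show (compMap D l).app (f l ⁻¹ᵁ U) (pullSec (f l) (glued D) (le_refl _) z) = sec D l z
    rw [compMap_pullSec, InvExt.mres_self]
  have h : g₁ ≫ f i = g₂ ≫ f j := h₁.trans h₂.symm
  have hr := (compat_sec D z).relAt g₁ g₂ h (le_refl (f i ⁻¹ᵁ U)) (le_refl (f j ⁻¹ᵁ U)) (le_pre h₁ U) (le_pre h₂ U)
  rw [InvExt.mres_self, InvExt.mres_self] at hr
  exact ((congrArg ((D.hom q g₁ g₂ h₁ h₂).app (q ⁻¹ᵁ U)) (key g₁ h₁)).trans
    ((relAt_iff D g₁ g₂ h (le_pre h₁ U) (le_pre h₂ U) q h₁ h₂ (sec D i z) (sec D j z)).1 hr)).trans (key g₂ h₂).symm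

end GrothLib.QcEff29
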