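import Groth.Agent.Lib.QcEff29.Calc

/-!
# Compatible families on a finite family of charts
-/

set_option autoImplicit false
universe u

open CategoryTheory CategoryTheory.Limits AlgebraicGeometry Opposite TopologicalSpace TensorProduct
open GrothLib.QCoh (pullSec sectionsMap)

set_option backward.isDefEq.respectTransparency false

noncomputable section

namespace GrothLib.QcEff29

variable {ι : Type u} {S : Scheme.{u}} {X : ι → Scheme.{u}} {f : ∀ i, X i ⟶ S} {V : S.Opens} (F : Fam f V) (D : Datum f)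

/-- The coordinate rings of double overlaps. -/
abbrev R2 (k l : F.κ) : Type u := F.B k ⊗[Γ(S, V)] F.B l

/-- First projection. -/
abbrev iL (k l : F.κ) : F.B k →ₐ[Γ(S, V)] R2 F k l := Algebra.TensorProduct.includeLeft

/-- Second projection. -/
abbrev iR (k l : F.κ) : F.B l →ₐ[Γ(S, V)] R2 F k l := Algebra.TensorProduct.includeRight

theorem ev_smul_A {R : Type u} [CommRing R] [Algebra Γ(S, V) R] {k : F.κ} (α : F.B k →ₐ[Γ(S, V)] R) (a : Γ(S, V)) (n : N F D k) :
    ev F D α (a • n) = a • ev F D α n := by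
  rw [smul_N, ev_smul, smul_sec, AlgHom.commutes]

/-- The obstruction of a family to be compatible. -/
def delta (k l : F.κ) : (∀ k, N F D k) →ₗ[Γ(S, V)] Sec F D (iR F k l) where
  toFun z := tr F D (iL F k l) (iR F k l) (ev F D (iL F k l) (z k)) - ev F D (iR F k l) (z l)
  map_add' z w := by simp only [Pi.add_apply, map_add]; abel
  map_smul' a z := by
    rw [RingHom.id_apply, Pi.smul_apply, Pi.smul_apply, ev_smul_A, ev_smul_A, smul_sec F D (iL F k l), tr_smul,
      ← smul_sec F D (iR F k l), smul_sub]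

theorem delta_apply (k l : F.κ) (z : ∀ k, N F D k) :
    delta F D k l z = tr F D (iL F k l) (iR F k l) (ev F D (iL F k l) (z k)) - ev F D (iR F k l) (z l) := rfl

/-- All obstructions. -/
def Delta : (∀ k, N F D k) →ₗ[Γ(S, V)] ∀ p : F.κ × F.κ, Sec F D (iR F p.1 p.2) :=
  LinearMap.pi fun p => delta F D p.1 p.2

/-- Compatible families. -/
abbrev E : Submodule Γ(S, V) (∀ k, N F D k) := LinearMap.ker (Delta F D)

theorem mem_E {z : ∀ k, N F D k} :
    z ∈ E F D ↔ ∀ k l, tr F D (iL F k l) (iR F k l) (ev F D (iL F k l) (z k)) = ev F D (iR F k l) (z l) := by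
  rw [LinearMap.mem_ker]
  exact ⟨fun h k l => sub_eq_zero.1 (congrFun h (k, l)), fun h => funext fun p => sub_eq_zero.2 (h p.1 p.2)⟩

theorem compat {z : ∀ k, N F D k} (hz : z ∈ E F D) {R : Type u} [CommRing R] [Algebra Γ(S, V) R] {k l : F.κ}
    (α : F.B k →ₐ[Γ(S, V)] R) (α' : F.B l →ₐ[Γ(S, V)] R) : tr F D α α' (ev F D α (z k)) = ev F D α' (z l) := by
  have h := congrArg (push F D (Algebra.TensorProduct.productMap α α') (iR F k l)) ((mem_E F D).1 hz k l)
  rw [push_tr, push_ev, push_ev] at h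
  have key : ∀ γ γ', γ = α → γ' = α' → tr F D γ γ' (ev F D γ (z k)) = ev F D γ' (z l) →
      tr F D α α' (ev F D α (z k)) = ev F D α' (z l) := by
    rintro _ _ rfl rfl e
    exact e
  exact key _ _ (Algebra.TensorProduct.productMap_left α α') (Algebra.TensorProduct.productMap_right α α') h

section Theta

variable {R : Type u} [CommRing R] [Algebra Γ(S, V) R] {m k : F.κ}

/-- Base change of the sections on a chart. -/
def theta (ν : F.B m →ₐ[Γ(S, V)] R) (γ : F.B k →ₐ[Γ(S, V)] R) : F.B m ⊗[Γ(S, V)] N F D k →ₗ[Γ(S, V)] Sec F D γ :=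
  TensorProduct.lift (LinearMap.mk₂ Γ(S, V) (fun b n => sm (ν b) (ev F D γ n))
    (fun b b' n => by simp only [map_add]; exact sm_add_left _ _ _)
    (fun a b n => by rw [smul_sec, sm_sm, Algebra.smul_def, map_mul, AlgHom.commutes])
    (fun b n n' => by simp only [map_add]; exact sm_add _ _ _)
    (fun a b n => by rw [ev_smul_A, smul_sec, smul_sec, sm_sm, sm_sm, mul_comm]))

theorem theta_tmul (ν : F.B m →ₐ[Γ(S, V)] R) (γ : F.B k →ₐ[Γ(S, V)] R) (b : F.B m) (n : N F D k) :
    theta F D ν γ (b ⊗ₜ n) = sm (ν b) (ev F D γ n) := rfl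

theorem push_theta {R' : Type u} [CommRing R'] [Algebra Γ(S, V) R'] (u : R →ₐ[Γ(S, V)] R') (ν : F.B m →ₐ[Γ(S, V)] R)
    (γ : F.B k →ₐ[Γ(S, V)] R) (w : F.B m ⊗[Γ(S, V)] N F D k) :
    push F D u γ (theta F D ν γ w) = theta F D (u.comp ν) (u.comp γ) w := by
  induction w using TensorProduct.induction_on with
  | zero => simp
  | tmul b n => rw [theta_tmul, push_smul, push_ev, theta_tmul]; rfl
  | add a b ha hb => rw [map_add, map_add, ha, hb, map_add]

end Theta

theorem theta_bijective (m k : F.κ) : Function.Bijective (theta F D (iL F m k) (iR F m k)) :=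
  haveI := D.qc (F.ix k)
  bc_bijective (F.pt (iR F m k)) (ob D (F.ix k)) (F.pt_le _) (RingEquiv.refl _) (fun a n => smul_N F D a n)
    (io (R2 F m k)) (fun c => appLE_pt F (iR F m k) c) (F.hP k) (isAffineOpen_top _)
    (theta F D (iL F m k) (iR F m k)).toAddMonoidHom fun b n => (theta_tmul F D _ _ b n).trans (sm_eq _ _)

section BigTheta

variable (m : F.κ) {R : Type u} [CommRing R] [Algebra Γ(S, V) R] {l : F.κ} (α : F.B l →ₐ[Γ(S, V)] R)

/-- Third projection. -/
abbrev jR : R →ₐ[Γ(S, V)] F.B m ⊗[Γ(S, V)] R := Algebra.TensorProduct.includeRight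

/-- Base change of sections over a point. -/
def bigTheta : F.B m ⊗[Γ(S, V)] Sec F D α →ₗ[Γ(S, V)] Sec F D ((jR F m).comp α) :=
  TensorProduct.lift (LinearMap.mk₂ Γ(S, V) (fun b s => sm (b ⊗ₜ[Γ(S, V)] (1 : R)) (push F D (jR F m) α s))
    (fun b b' n => by rw [TensorProduct.add_tmul]; exact sm_add_left _ _ _)
    (fun a b n => by rw [smul_sec, sm_sm, ← TensorProduct.smul_tmul', Algebra.smul_def])
    (fun b n n' => by simp only [map_add]; exact sm_add _ _ _)
    (fun a b n => by rw [smul_sec F D α, push_smul, AlgHom.commutes, smul_sec, sm_sm, sm_sm, mul_comm]))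

theorem bigTheta_tmul (b : F.B m) (s : Sec F D α) :
    bigTheta F D m α (b ⊗ₜ s) = sm (b ⊗ₜ[Γ(S, V)] (1 : R)) (push F D (jR F m) α s) := rfl

theorem bigTheta_bijective : Function.Bijective (bigTheta F D m α) := by
  haveI := D.qc (F.ix l)
  haveI := FittSheaf.isQuasicoherent_pullback (F.pt α) (ob D (F.ix l))
  exact bc_push_bijective (F.pt α) (Spec.map (CommRingCat.ofHom (jR F m (R := R)).toRingHom)) (F.pt ((jR F m).comp α))
    (F.comp_pt (jR F m) α) (ob D (F.ix l)) (le_top_preimage _) (io R) (fun a n => (smul_sec F D α a n).trans (sm_eq _ _))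
    (io (F.B m ⊗[Γ(S, V)] R)) (fun r => appLE_SpecMap (jR F m (R := R)).toRingHom (le_top_preimage _) r)
    (isAffineOpen_top _) (isAffineOpen_top _) (bigTheta F D m α).toAddMonoidHom fun b s => by
      rw [LinearMap.toAddMonoidHom_coe, bigTheta_tmul, push_eq, sm_eq]

end BigTheta

/-- Evaluation of compatible families at one chart. -/
def Psi (m : F.κ) : F.B m ⊗[Γ(S, V)] E F D →ₗ[Γ(S, V)] N F D m :=
  TensorProduct.lift (LinearMap.mk₂ Γ(S, V) (fun b x => b • x.1 m) (fun b b' x => add_smul _ _ _)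
    (fun a b x => smul_assoc _ _ _) (fun b x x' => smul_add _ _ _) (fun a b x => smul_comm _ _ _))

theorem Psi_tmul (m : F.κ) (b : F.B m) (x : E F D) : Psi F D m (b ⊗ₜ x) = b • x.1 m := rfl

theorem piRight_apply'' {σ : Type u} [Fintype σ] [DecidableEq σ] {M : σ → Type u} [∀ k, AddCommGroup (M k)]
    [∀ k, Module Γ(S, V) (M k)] {B : Type u} [CommRing B] [Algebra Γ(S, V) B] (w : B ⊗[Γ(S, V)] (∀ k, M k)) (k : σ) :
    TensorProduct.piRight Γ(S, V) Γ(S, V) B M w k = (LinearMap.proj k).lTensor B w := by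
  induction w using TensorProduct.induction_on with
  | zero => simp
  | tmul b z => simp
  | add a b ha hb => rw [map_add, Pi.add_apply, ha, hb, map_add]

attribute [local irreducible] push theta bigTheta delta QCoh.pullSec

theorem bigTheta_delta (m k l : F.κ) (z : F.B m ⊗[Γ(S, V)] (∀ k, N F D k)) :
    bigTheta F D m (iR F k l) ((delta F D k l).lTensor (F.B m) z) =
      tr F D ((jR F m).comp (iL F k l)) ((jR F m).comp (iR F k l))
        (theta F D (Algebra.TensorProduct.includeLeft : F.B m →ₐ[Γ(S, V)] F.B m ⊗[Γ(S, V)] R2 F k l)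
          ((jR F m).comp (iL F k l)) ((LinearMap.proj k).lTensor _ z)) -
      theta F D (Algebra.TensorProduct.includeLeft : F.B m →ₐ[Γ(S, V)] F.B m ⊗[Γ(S, V)] R2 F k l)
          ((jR F m).comp (iR F k l)) ((LinearMap.proj l).lTensor _ z) := by
  induction z using TensorProduct.induction_on with
  | zero => simp
  | tmul b x =>
    have h2 : push F D (jR F m) (iR F k l) (delta F D k l x) =
        tr F D ((jR F m).comp (iL F k l)) ((jR F m).comp (iR F k l)) (ev F D ((jR F m).comp (iL F k l)) (x k)) -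
          ev F D ((jR F m).comp (iR F k l)) (x l) := by
      rw [delta_apply, map_sub, push_tr]
      exact congrArg₂ (· - ·) (congrArg (tr F D _ _) (push_ev F D (jR F m) (iL F k l) (x k)))
        (push_ev F D (jR F m) (iR F k l) (x l))
    refine (congrArg (bigTheta F D m _) (LinearMap.lTensor_tmul _ (delta F D k l) b x)).trans ?_
    refine Eq.trans (bigTheta_tmul F D m _ b _) ?_
    refine ((congrArg (sm (b ⊗ₜ[Γ(S, V)] (1 : R2 F k l))) h2).trans (sm_sub _ _ _)).trans ?_
    have eL := congrArg (theta F D (Algebra.TensorProduct.includeLeft : F.B m →ₐ[Γ(S, V)] F.B m ⊗[Γ(S, V)] R2 F k l)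
      ((jR F m).comp (iR F k l))) (LinearMap.lTensor_tmul (F.B m) (LinearMap.proj (R := Γ(S, V)) (φ := N F D) l) b x)
    have eK := congrArg (theta F D (Algebra.TensorProduct.includeLeft : F.B m →ₐ[Γ(S, V)] F.B m ⊗[Γ(S, V)] R2 F k l)
      ((jR F m).comp (iL F k l))) (LinearMap.lTensor_tmul (F.B m) (LinearMap.proj (R := Γ(S, V)) (φ := N F D) k) b x)
    refine congrArg₂ (· - ·) ((tr_smul F D _ _ _ _).symm.trans (congrArg (tr F D _ _) (eK.trans ?_).symm)) (eL.trans ?_).symm
    · exact theta_tmul F D (Algebra.TensorProduct.includeLeft : F.B m →ₐ[Γ(S, V)] F.B m ⊗[Γ(S, V)] R2 F k l)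
        ((jR F m).comp (iL F k l)) b (x k)
    · exact theta_tmul F D (Algebra.TensorProduct.includeLeft : F.B m →ₐ[Γ(S, V)] F.B m ⊗[Γ(S, V)] R2 F k l)
        ((jR F m).comp (iR F k l)) b (x l)
  | add a b ha hb => simp only [map_add, ha, hb]; abel

theorem tr_sub_eq_zero {R : Type u} [CommRing R] [Algebra Γ(S, V) R] {m k l : F.κ}
    (W : F.B m ⊗[Γ(S, V)] (∀ k, N F D k)) (n : N F D m) (ν : F.B m →ₐ[Γ(S, V)] R) (γk : F.B k →ₐ[Γ(S, V)] R)
    (γl : F.B l →ₐ[Γ(S, V)] R)
    (hk : ∀ {R : Type u} [CommRing R] [Algebra Γ(S, V) R] (ν : F.B m →ₐ[Γ(S, V)] R) (γ : F.B k →ₐ[Γ(S, V)] R),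
      theta F D ν γ ((LinearMap.proj k).lTensor (F.B m) W) = tr F D ν γ (ev F D ν n))
    (hl : ∀ {R : Type u} [CommRing R] [Algebra Γ(S, V) R] (ν : F.B m →ₐ[Γ(S, V)] R) (γ : F.B l →ₐ[Γ(S, V)] R),
      theta F D ν γ ((LinearMap.proj l).lTensor (F.B m) W) = tr F D ν γ (ev F D ν n)) :
    tr F D γk γl (theta F D ν γk ((LinearMap.proj k).lTensor (F.B m) W)) -
      theta F D ν γl ((LinearMap.proj l).lTensor (F.B m) W) = 0 := by
  rw [hk ν γk, hl ν γl]
  exact sub_eq_zero.2 (tr_tr F D ν γk γl (ev F D ν n))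

theorem theta_comp_sub {R : Type u} [CommRing R] [Algebra Γ(S, V) R] {m k : F.κ} (ν : F.B m →ₐ[Γ(S, V)] R) (γ : F.B k →ₐ[Γ(S, V)] R)
    (t : F.B m ⊗[Γ(S, V)] E F D) :
    theta F D ν γ ((LinearMap.proj k).lTensor _ ((E F D).subtype.lTensor _ t)) = tr F D ν γ (ev F D ν (Psi F D m t)) := by
  induction t using TensorProduct.induction_on with
  | zero => simp
  | tmul b x =>
    show theta F D ν γ (b ⊗ₜ x.1 k) = _
    rw [theta_tmul, Psi_tmul, ev_smul, tr_smul, compat F D x.2]
  | add a b ha hb => simp only [map_add, ha, hb]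

theorem ev_Psi_eq {m : F.κ} {W : F.B m ⊗[Γ(S, V)] (∀ k, N F D k)} (n : N F D m) (t : F.B m ⊗[Γ(S, V)] E F D)
    (hm : ∀ {R : Type u} [CommRing R] [Algebra Γ(S, V) R] (ν : F.B m →ₐ[Γ(S, V)] R) (γ : F.B m →ₐ[Γ(S, V)] R),
      theta F D ν γ ((LinearMap.proj m).lTensor (F.B m) W) = tr F D ν γ (ev F D ν n))
    (ht : (E F D).subtype.lTensor (F.B m) t = W) {R : Type u} [CommRing R] [Algebra Γ(S, V) R]
    (ν : F.B m →ₐ[Γ(S, V)] R) : ev F D ν (Psi F D m t) = ev F D ν n := by
  subst ht
  have h := (theta_comp_sub F D ν ν t).symm.trans (hm ν ν)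
  exact ((tr_self F D ν _).symm.trans h).trans (tr_self F D ν _)

theorem ev_injective (m : F.κ) : Function.Injective (ev F D (iR F m m)) := fun a b hab => by
  have h0 : theta F D (iL F m m) (iR F m m) ((1 : F.B m) ⊗ₜ[Γ(S, V)] a) =
      theta F D (iL F m m) (iR F m m) ((1 : F.B m) ⊗ₜ[Γ(S, V)] b) :=
    ((theta_tmul F D (iL F m m) (iR F m m) 1 a).trans (congrArg (sm _) hab)).trans
      (theta_tmul F D (iL F m m) (iR F m m) 1 b).symm
  have h1 := congrArg (TensorProduct.lift (LinearMap.lsmul Γ(X (F.ix m), F.P m) (N F D m) |>.restrictScalars₁₂ Γ(S, V) Γ(S, V)))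
    ((theta_bijective F D m m).1 h0)
  simpa using h1

theorem exact_lTensor (m : F.κ) (hm : Module.Flat Γ(S, V) (F.B m)) :
    Function.Exact ((E F D).subtype.lTensor (F.B m)) ((Delta F D).lTensor (F.B m)) :=
  haveI := hm
  Module.Flat.lTensor_exact _ (LinearMap.exact_subtype_ker_map _)

/-- Compatible families base change to the sections on each chart. -/
theorem Psi_bijective (m : F.κ) (hm : Module.Flat Γ(S, V) (F.B m)) : Function.Bijective (Psi F D m) := by
  classical
  haveI := F.fin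
  haveI := Fintype.ofFinite F.κ
  haveI := hm
  refine ⟨(injective_iff_map_eq_zero _).2 fun t ht => ?_, fun n => ?_⟩
  · refine Module.Flat.lTensor_preserves_injective_linearMap (M := F.B m) _ (E F D).injective_subtype ?_
    rw [map_zero]
    refine (TensorProduct.piRight Γ(S, V) Γ(S, V) (F.B m) (N F D)).injective (funext fun k => ?_)
    rw [piRight_apply'', map_zero, Pi.zero_apply]
    apply (theta_bijective F D m k).1
    rw [theta_comp_sub, ht, map_zero, map_zero, map_zero]
  · choose w hw using fun k => (theta_bijective F D m k).2 (tr F D (iL F m k) (iR F m k) (ev F D (iL F m k) n))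
    have univ : ∀ {R : Type u} [CommRing R] [Algebra Γ(S, V) R] (k : F.κ) (ν : F.B m →ₐ[Γ(S, V)] R) (γ : F.B k →ₐ[Γ(S, V)] R),
        theta F D ν γ (w k) = tr F D ν γ (ev F D ν n) := by
      intro R _ _ k ν γ
      have h := congrArg (push F D (Algebra.TensorProduct.productMap ν γ) (iR F m k)) (hw k)
      rw [push_theta, push_tr, push_ev] at h
      have key : ∀ ν' γ', ν' = ν → γ' = γ → theta F D ν' γ' (w k) = tr F D ν' γ' (ev F D ν' n) →
          theta F D ν γ (w k) = tr F D ν γ (ev F D ν n) := by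
        rintro _ _ rfl rfl e
        exact e
      exact key _ _ (Algebra.TensorProduct.productMap_left ν γ) (Algebra.TensorProduct.productMap_right ν γ) h
    let W := (TensorProduct.piRight Γ(S, V) Γ(S, V) (F.B m) (N F D)).symm w
    have hW : ∀ k, (LinearMap.proj k).lTensor (F.B m) W = w k := fun k => by
      rw [← piRight_apply'', LinearEquiv.apply_symm_apply]
    have univ' : ∀ (k : F.κ) {R : Type u} [CommRing R] [Algebra Γ(S, V) R] (ν : F.B m →ₐ[Γ(S, V)] R)
        (γ : F.B k →ₐ[Γ(S, V)] R), theta F D ν γ ((LinearMap.proj k).lTensor (F.B m) W) = tr F D ν γ (ev F D ν n) :=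
      fun k R _ _ ν γ => (congrArg (theta F D ν γ) (hW k)).trans (univ k ν γ)
    have hD : (Delta F D).lTensor (F.B m) W = 0 := by
      refine (TensorProduct.piRight Γ(S, V) Γ(S, V) (F.B m) (fun p : F.κ × F.κ => Sec F D (iR F p.1 p.2))).injective
        (funext fun p => ?_)
      rw [map_zero, Pi.zero_apply]
      apply (bigTheta_bijective F D m (iR F p.1 p.2)).1
      rw [map_zero]
      have hp : (LinearMap.proj p).lTensor (F.B m) ((Delta F D).lTensor (F.B m) W) = (delta F D p.1 p.2).lTensor (F.B m) W := by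
        rw [← LinearMap.comp_apply, ← LinearMap.lTensor_comp]
        rfl
      rw [piRight_apply'']
      refine (congrArg (bigTheta F D m (iR F p.1 p.2)) hp).trans ?_
      refine (bigTheta_delta F D m p.1 p.2 W).trans ?_
      exact tr_sub_eq_zero F D W n _ _ _ (univ' p.1) (univ' p.2)
    obtain ⟨t, ht⟩ := (exact_lTensor F D m hm W).1 hD
    refine ⟨t, ?_⟩
    have h3 : ev F D (iR F m m) (Psi F D m t) = ev F D (iR F m m) n :=
      ev_Psi_eq F D n t (univ' m) ht (iR F m m)
    exact ev_injective F D m h3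

end GrothLib.QcEff29
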