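import Groth.Agent.Lib.QcEff29.Chart

/-!
# Quasi-coherence of the glued module
-/

set_option autoImplicit false
universe u

open CategoryTheory CategoryTheory.Limits AlgebraicGeometry Opposite TopologicalSpace TensorProduct
open GrothLib.QCoh (pullSec)
open GrothLib.InvExt (mres fres)

set_option backward.isDefEq.respectTransparency false

noncomputable section

namespace GrothLib.QcEff29

variable {ι : Type u} {S : Scheme.{u}} {X : ι → Scheme.{u}} {f : ∀ i, X i ⟶ S} {V : S.Opens}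
  (F : Fam f V) (D : Datum f) (hflat : ∀ i, Flat (f i))

theorem mres_app_smul {X' : Scheme.{u}} (f' : X' ⟶ S) (M : X'.Modules) {U : S.Opens} {P : X'.Opens}
    (hle : P ≤ f' ⁻¹ᵁ U) (a : Γ(S, U)) (x : Γ(M, f' ⁻¹ᵁ U)) :
    mres M hle (f'.app U a • x) = f'.appLE U P hle a • mres M hle x := by
  rw [InvExt.mres_smul]; rfl

/-- Sections of the glued module as compatible families. -/
def secFam : Γ(glued D, V) →ₗ[Γ(S, V)] E F D where
  toFun z := ⟨res F (fun i => sec D i z), res_mem (compat_sec D z)⟩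
  map_add' z w := Subtype.ext (funext fun k => by
    show mres _ _ (sec D _ (z + w)) = mres _ _ (sec D _ z) + mres _ _ (sec D _ w)
    rw [map_add]
    exact map_add ((D.M (F.ix k)).presheaf.map (homOfLE (F.hle k)).op).hom _ _)
  map_smul' a z := Subtype.ext (funext fun k =>
    ((congrArg (mres (D.M (F.ix k)) (F.hle k)) (sec_smul D a z (F.ix k))).trans
      (mres_app_smul (f (F.ix k)) (D.M (F.ix k)) (F.hle k) a (sec D (F.ix k) z))).trans
      (smul_N F D a (mres (D.M (F.ix k)) (F.hle k) (sec D (F.ix k) z))).symm)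

theorem secFam_apply (z : Γ(glued D, V)) (k : F.κ) :
    (secFam F D z).1 k = mres _ (F.hle k) (sec D (F.ix k) z) := rfl

include hflat in
theorem secFam_bijective : Function.Bijective (secFam F D) := by
  refine ⟨fun z z' h => sec_ext D fun i => ?_, fun w => ?_⟩
  · exact congrFun (res_injective hflat (compat_sec D z) (compat_sec D z') (congrArg Subtype.val h)) i
  · obtain ⟨x, hx, hxw⟩ := res_surjective hflat w
    obtain ⟨z, hz, -⟩ := existsUnique_sec D x hx
    exact ⟨z, Subtype.ext ((congrArg (res F) (funext hz)).trans hxw)⟩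

/-- The chart function of a function on the base. -/
abbrev fk (k : F.κ) (g : Γ(S, V)) : F.B k := (f (F.ix k)).appLE V (F.P k) (F.hle k) g

theorem basicOpen_fk (k : F.κ) (g : Γ(S, V)) :
    (X (F.ix k)).basicOpen (fk F k g) = F.P k ⊓ f (F.ix k) ⁻¹ᵁ S.basicOpen g :=
  Scheme.basicOpen_appLE _ _ _ _ _

theorem basicOpen_fk_le (k : F.κ) (g : Γ(S, V)) :
    (X (F.ix k)).basicOpen (fk F k g) ≤ f (F.ix k) ⁻¹ᵁ S.basicOpen g :=
  (basicOpen_fk F k g).le.trans inf_le_right

theorem fres_fk_eq (k : F.κ) (g : Γ(S, V)) :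
    fres (X (F.ix k)) ((X (F.ix k)).basicOpen_le (fk F k g)) (fk F k g) =
      fres (X (F.ix k)) (basicOpen_fk_le F k g) ((f (F.ix k)).app (S.basicOpen g) (fres S (S.basicOpen_le g) g)) := by
  have a := ConcreteCategory.congr_hom (Scheme.Hom.appLE_map (f (F.ix k)) (F.hle k)
    (homOfLE ((X (F.ix k)).basicOpen_le (fk F k g))).op) g
  have b := ConcreteCategory.congr_hom (Scheme.Hom.appLE_map (f (F.ix k)) (le_refl (f (F.ix k) ⁻¹ᵁ S.basicOpen g))
    (homOfLE (basicOpen_fk_le F k g)).op) (fres S (S.basicOpen_le g) g)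
  have c := ConcreteCategory.congr_hom (Scheme.Hom.map_appLE (f (F.ix k))
    (show (X (F.ix k)).basicOpen (fk F k g) ≤ f (F.ix k) ⁻¹ᵁ S.basicOpen g from basicOpen_fk_le F k g)
    (homOfLE (S.basicOpen_le g)).op) g
  refine a.trans (c.symm.trans ?_)
  rw [Scheme.Hom.app_eq_appLE]
  exact b.symm

/-- The charts over a basic open. -/
abbrev Fam.basic (g : Γ(S, V)) : Fam f (S.basicOpen g) where
  hV := F.hV.basicOpen g
  κ := F.κ
  fin := F.fin
  ix := F.ix
  P k := (X (F.ix k)).basicOpen (fk F k g)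
  hP k := (F.hP k).basicOpen _
  hle k := basicOpen_fk_le F k g
  hcov v hv := by
    obtain ⟨k, p, hp, hpv⟩ := F.hcov v (S.basicOpen_le g hv)
    exact ⟨k, p, (basicOpen_fk F k g).ge ⟨hp, show f (F.ix k) p ∈ S.basicOpen g by rw [hpv]; exact hv⟩, hpv⟩

theorem RelAt.smul {D : Datum f} {W : Scheme.{u}} {i j : ι} {g₁ : W ⟶ X i} {g₂ : W ⟶ X j}
    {h : g₁ ≫ f i = g₂ ≫ f j} {P : (X i).Opens} {Q : (X j).Opens} {T : W.Opens} {e₁ : T ≤ g₁ ⁻¹ᵁ P}
    {e₂ : T ≤ g₂ ⁻¹ᵁ Q} {a : Γ(D.M i, P)} {b : Γ(D.M j, Q)} (hr : RelAt D g₁ g₂ h e₁ e₂ a b) (c : Γ(X i, P))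
    (c' : Γ(X j, Q)) (hc : g₁.appLE P T e₁ c = g₂.appLE Q T e₂ c') : RelAt D g₁ g₂ h e₁ e₂ (c • a) (c' • b) := by
  rw [RelAt, QCoh.pullSec_smul, QCoh.pullSec_smul, Scheme.Modules.Hom.app_smul, hr, hc]

theorem smul_pow_of_le {R M : Type*} [CommRing R] [AddCommGroup M] [Module R M] {a : R} {x : M} {n N : ℕ}
    (h : a ^ n • x = 0) (hN : n ≤ N) : a ^ N • x = 0 := by
  rw [show a ^ N = a ^ (N - n) * a ^ n by rw [← pow_add, Nat.sub_add_cancel hN], mul_smul, h, smul_zero]

include F hflat in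
theorem smulSep_glued (g : Γ(S, V)) : QCoh.SmulSep (glued D) g := fun t ht => by
  haveI := F.fin
  have hk : ∀ k, ∃ n : ℕ, fk F k g ^ n • (secFam F D t).1 k = 0 := fun k => by
    haveI := D.qc (F.ix k)
    refine (QCoh.smulLift_and_smulSep_of_isAffineOpen (F.hP k) (D.M (F.ix k)) (fk F k g)).2 _ ?_
    show mres _ ((X (F.ix k)).basicOpen_le (fk F k g)) (mres _ (F.hle k) (sec D (F.ix k) t)) = 0
    have h1 := sec_mres D (S.basicOpen_le g) t (F.ix k)
    rw [show mres (glued D) (S.basicOpen_le g) t = 0 from ht, map_zero] at h1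
    have h2 := congrArg (mres (D.M (F.ix k)) (basicOpen_fk_le F k g)) h1.symm
    rw [InvExt.mres_mres] at h2
    rw [InvExt.mres_mres]
    exact h2.trans (map_zero _)
  choose n hn using hk
  haveI := Fintype.ofFinite F.κ
  refine ⟨Finset.univ.sup n, (secFam_bijective F D hflat).1 ?_⟩
  rw [map_smul, map_zero]
  refine Subtype.ext (funext fun k => ?_)
  show (g ^ Finset.univ.sup n) • (secFam F D t).1 k = 0
  rw [smul_N, map_pow]
  exact smul_pow_of_le (hn k) (Finset.le_sup (Finset.mem_univ k))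

include F hflat in
theorem smulLift_glued (g : Γ(S, V)) : QCoh.SmulLift (glued D) g := fun s => by
  haveI := F.fin
  haveI := Fintype.ofFinite F.κ
  let g' := fres S (S.basicOpen_le g) g
  let sk : ∀ k, Γ(D.M (F.ix k), (X (F.ix k)).basicOpen (fk F k g)) := fun k => (secFam (F.basic g) D s).1 k
  have hk : ∀ k, ∃ (n : ℕ) (t : N F D k), mres _ ((X (F.ix k)).basicOpen_le (fk F k g)) t =
      fres (X (F.ix k)) ((X (F.ix k)).basicOpen_le (fk F k g)) (fk F k g) ^ n • sk k := fun k => by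
    haveI := D.qc (F.ix k)
    exact (QCoh.smulLift_and_smulSep_of_isAffineOpen (F.hP k) (D.M (F.ix k)) (fk F k g)).1 (sk k)
  choose n t ht using hk
  let n₀ := Finset.univ.sup n
  let t₀ : ∀ k, N F D k := fun k => fk F k g ^ (n₀ - n k) • t k
  have ht₀ : ∀ k, mres _ ((X (F.ix k)).basicOpen_le (fk F k g)) (t₀ k) =
      fres (X (F.ix k)) ((X (F.ix k)).basicOpen_le (fk F k g)) (fk F k g) ^ n₀ • sk k := fun k => by
    rw [InvExt.mres_smul, ht, smul_smul]
    congr 1
    show (X (F.ix k)).presheaf.map _ (fk F k g ^ (n₀ - n k)) * _ = _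
    rw [map_pow, ← pow_add, Nat.sub_add_cancel (Finset.le_sup (Finset.mem_univ k))]
  have hd : ∀ p : F.κ × F.κ, ∃ m : ℕ, g ^ m • delta F D p.1 p.2 t₀ = 0 := fun p => by
    obtain ⟨k, l⟩ := p
    let R := R2 F k l
    let γ : Γ(Spec (CommRingCat.of R), ⊤) := io R (algebraMap Γ(S, V) R g)
    haveI := D.qc (F.ix l)
    haveI := FittSheaf.isQuasicoherent_pullback (F.pt (iR F k l)) (ob D (F.ix l))
    obtain ⟨m, hm⟩ := (QCoh.smulLift_and_smulSep_of_isAffineOpen (isAffineOpen_top _)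
      ((Scheme.Modules.pullback (F.pt (iR F k l))).obj (ob D (F.ix l))) γ).2 (delta F D k l t₀) (by
        let T₀ := (Spec (CommRingCat.of R)).basicOpen γ
        show mres _ ((Spec (CommRingCat.of R)).basicOpen_le γ) (delta F D k l t₀) = 0
        have hγ₁ : γ = (F.pt (iL F k l)).appLE (F.P k) ⊤ (F.pt_le _) (fk F k g) := by
          rw [appLE_pt]
          exact congrArg (io R) ((iL F k l).commutes g).symm
        have hγ₂ : γ = (F.pt (iR F k l)).appLE (F.P l) ⊤ (F.pt_le _) (fk F l g) := by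
          rw [appLE_pt]
          exact congrArg (io R) ((iR F k l).commutes g).symm
        have a₁ : T₀ ≤ F.pt (iL F k l) ⁻¹ᵁ (X (F.ix k)).basicOpen (fk F k g) := by
          rw [show T₀ = _ from congrArg (Spec (CommRingCat.of R)).basicOpen hγ₁, Scheme.basicOpen_appLE]
          exact inf_le_right
        have a₂ : T₀ ≤ F.pt (iR F k l) ⁻¹ᵁ (X (F.ix l)).basicOpen (fk F l g) := by
          rw [show T₀ = _ from congrArg (Spec (CommRingCat.of R)).basicOpen hγ₂, Scheme.basicOpen_appLE]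
          exact inf_le_right
        have b₁ : T₀ ≤ F.pt (iL F k l) ⁻¹ᵁ F.P k := fun _ _ => F.pt_le _ trivial
        have b₂ : T₀ ≤ F.pt (iR F k l) ⁻¹ᵁ F.P l := fun _ _ => F.pt_le _ trivial
        have hh : F.pt (iL F k l) ≫ f (F.ix k) = F.pt (iR F k l) ≫ f (F.ix l) := (F.pt_f _).trans (F.pt_f _).symm
        have r₀ : RelAt D (F.pt (iL F k l)) (F.pt (iR F k l)) hh a₁ a₂ (sk k) (sk l) :=
          (compat_sec D s).relAt _ _ hh (basicOpen_fk_le F k g) (basicOpen_fk_le F l g) a₁ a₂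
        have r₁ : RelAt D (F.pt (iL F k l)) (F.pt (iR F k l)) hh b₁ b₂ (t₀ k) (t₀ l) := by
          refine RelAt.of_mres ((X (F.ix k)).basicOpen_le _) ((X (F.ix l)).basicOpen_le _) b₁ b₂ a₁ a₂ ?_
          rw [ht₀, ht₀]
          refine r₀.smul _ _ ?_
          rw [map_pow, map_pow]
          congr 1
          have c₁ := ConcreteCategory.congr_hom (Scheme.Hom.map_appLE (F.pt (iL F k l)) a₁
            (homOfLE ((X (F.ix k)).basicOpen_le (fk F k g))).op) (fk F k g)
          have c₂ := ConcreteCategory.congr_hom (Scheme.Hom.map_appLE (F.pt (iR F k l)) a₂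
            (homOfLE ((X (F.ix l)).basicOpen_le (fk F l g))).op) (fk F l g)
          have d₁ := ConcreteCategory.congr_hom (Scheme.Hom.appLE_map (F.pt (iL F k l)) (F.pt_le _)
            (homOfLE ((Spec (CommRingCat.of R)).basicOpen_le γ)).op) (fk F k g)
          have d₂ := ConcreteCategory.congr_hom (Scheme.Hom.appLE_map (F.pt (iR F k l)) (F.pt_le _)
            (homOfLE ((Spec (CommRingCat.of R)).basicOpen_le γ)).op) (fk F l g)
          exact c₁.trans (d₁.symm.trans ((congrArg ((Spec (CommRingCat.of R)).presheaf.map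
            (homOfLE ((Spec (CommRingCat.of R)).basicOpen_le γ)).op) (hγ₁.symm.trans hγ₂)).trans (d₂.trans c₂.symm)))
        have r₂ := (relAt_iff D _ _ hh b₁ b₂ (F.base R) (F.pt_f _) (F.pt_f _) (t₀ k) (t₀ l)).1 r₁
        rw [delta_apply]
        refine (map_sub (((Scheme.Modules.pullback (F.pt (iR F k l))).obj (ob D (F.ix l))).presheaf.map
          (homOfLE ((Spec (CommRingCat.of R)).basicOpen_le γ)).op).hom _ _).trans (sub_eq_zero.2 ?_)
        refine Eq.trans ((EtQc13.app_map (trHom F D (iL F k l) (iR F k l))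
          (homOfLE ((Spec (CommRingCat.of R)).basicOpen_le γ)) _).symm) ?_
        have u₁ := FundIso27.pullSec_mres (F.pt (iL F k l)) (ob D (F.ix k)) (F.pt_le _) b₁ le_rfl
          ((Spec (CommRingCat.of R)).basicOpen_le γ) (t₀ k)
        have u₂ := FundIso27.pullSec_mres (F.pt (iR F k l)) (ob D (F.ix l)) (F.pt_le _) b₂ le_rfl
          ((Spec (CommRingCat.of R)).basicOpen_le γ) (t₀ l)
        rw [InvExt.mres_self] at u₁ u₂
        exact ((congrArg ((trHom F D (iL F k l) (iR F k l)).app T₀) u₁).trans r₂).trans u₂.symm)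
    refine ⟨m, ?_⟩
    rw [smul_sec, sm_eq, map_pow, map_pow]
    exact hm
  choose m hm using hd
  let m₀ := Finset.univ.sup m
  have hE : g ^ m₀ • t₀ ∈ E F D := LinearMap.mem_ker.2 (funext fun p => by
    show delta F D p.1 p.2 (g ^ m₀ • t₀) = 0
    rw [map_smul]
    exact smul_pow_of_le (hm p) (Finset.le_sup (Finset.mem_univ p)))
  obtain ⟨z, hz⟩ := (secFam_bijective F D hflat).2 ⟨_, hE⟩
  refine ⟨m₀ + n₀, z, (secFam_bijective (F.basic g) D hflat).1 (Subtype.ext (funext fun k => ?_))⟩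
  have hz' : mres _ (F.hle k) (sec D (F.ix k) z) = fk F k g ^ m₀ • t₀ k := by
    refine (congrFun (congrArg Subtype.val hz) k).trans ?_
    show g ^ m₀ • t₀ k = _
    rw [smul_N, map_pow]
    rfl
  have l1 : (secFam (F.basic g) D (mres (glued D) (S.basicOpen_le g) z)).1 k =
      mres _ ((X (F.ix k)).basicOpen_le (fk F k g)) (mres _ (F.hle k) (sec D (F.ix k) z)) := by
    rw [secFam_apply, sec_mres, InvExt.mres_mres, InvExt.mres_mres]
  have l2 : (secFam (F.basic g) D (g' ^ (m₀ + n₀) • s)).1 k =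
      fres (X (F.ix k)) ((X (F.ix k)).basicOpen_le (fk F k g)) (fk F k g) ^ (m₀ + n₀) • sk k := by
    rw [secFam_apply, sec_smul, InvExt.mres_smul, fres_fk_eq, map_pow]
    congr 1
    exact map_pow ((X (F.ix k)).presheaf.map (homOfLE (basicOpen_fk_le F k g)).op).hom _ _
  refine l1.trans (Eq.trans ?_ l2.symm)
  rw [hz', InvExt.mres_smul, ht₀, smul_smul, pow_add]
  congr 2
  exact map_pow ((X (F.ix k)).presheaf.map (homOfLE ((X (F.ix k)).basicOpen_le (fk F k g))).op).hom _ _

end GrothLib.QcEff29
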