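import Groth.Agent.Lib.QcEff29.Base

/-!
# Compatibility of sections along a descent datum
-/

set_option autoImplicit false
universe u

open CategoryTheory CategoryTheory.Limits AlgebraicGeometry Opposite TopologicalSpace
open GrothLib.QCoh (pullSec)
open GrothLib.InvExt (mres)

set_option backward.isDefEq.respectTransparency false

noncomputable section

namespace GrothLib.QcEff29

theorem pullSec_injective_of_bijective {W X : Scheme.{u}} (g : W ⟶ X) (G : X.Modules) [G.IsQuasicoherent]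
    {T : X.Opens} {T' : W.Opens} (hT : IsAffineOpen T) (hT' : IsAffineOpen T') (e : T' ≤ g ⁻¹ᵁ T)
    (hb : Function.Bijective (g.appLE T T' e)) : Function.Injective (pullSec g G e) := fun a b hab => by
  letI : Algebra Γ(X, T) Γ(W, T') := (g.appLE T T' e).hom.toAlgebra
  let eq : Γ(X, T) ≃+* Γ(W, T') := RingEquiv.ofBijective (g.appLE T T' e).hom hb
  have h1 : (1 : Γ(W, T')) ⊗ₜ[Γ(X, T)] a = (1 : Γ(W, T')) ⊗ₜ[Γ(X, T)] b := by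
    refine (QCoh.bijective_sectionsMap g G e rfl hT hT').1 ?_
    rw [QCoh.sectionsMap_tmul, QCoh.sectionsMap_tmul, hab]
  let back : Γ(W, T') →+ Γ(G, T) →+ Γ(G, T) :=
    { toFun := fun t => DistribSMul.toAddMonoidHom _ (eq.symm t)
      map_zero' := by ext; simp
      map_add' := fun s t => by ext; simp [add_smul] }
  have h2 := congrArg (TensorProduct.liftAddHom back fun r t n => by
    show eq.symm (g.appLE T T' e r * t) • n = eq.symm t • r • n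
    rw [map_mul, show eq.symm (g.appLE T T' e r) = r from eq.symm_apply_apply r, mul_comm, mul_smul]) h1
  have h2' : eq.symm 1 • a = eq.symm 1 • b := h2
  rwa [map_one, one_smul, one_smul] at h2'

variable {ι : Type u} {S : Scheme.{u}} {X : ι → Scheme.{u}} {f : ∀ i, X i ⟶ S} (D : Datum f)
  {W : Scheme.{u}} {i j : ι} (g₁ : W ⟶ X i) (g₂ : W ⟶ X j) (h : g₁ ≫ f i = g₂ ≫ f j)
  {P : (X i).Opens} {Q : (X j).Opens} {T : W.Opens} (e₁ : T ≤ g₁ ⁻¹ᵁ P) (e₂ : T ≤ g₂ ⁻¹ᵁ Q)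

/-- The sections `a` and `b` correspond under the gluing morphism. -/
def RelAt (a : Γ(D.M i, P)) (b : Γ(D.M j, Q)) : Prop :=
  (D.hom (g₂ ≫ f j) g₁ g₂ h rfl).app T (pullSec g₁ _ e₁ a) = pullSec g₂ _ e₂ b

theorem relAt_iff (q : W ⟶ S) (h₁ : g₁ ≫ f i = q) (h₂ : g₂ ≫ f j = q) (a : Γ(D.M i, P)) (b : Γ(D.M j, Q)) :
    RelAt D g₁ g₂ h e₁ e₂ a b ↔ (D.hom q g₁ g₂ h₁ h₂).app T (pullSec g₁ _ e₁ a) = pullSec g₂ _ e₂ b := by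
  subst h₂
  exact Iff.rfl

theorem relAt_congr {g₁' : W ⟶ X i} {g₂' : W ⟶ X j} (p₁ : g₁ = g₁') (p₂ : g₂ = g₂') (h' : g₁' ≫ f i = g₂' ≫ f j)
    (e₁' : T ≤ g₁' ⁻¹ᵁ P) (e₂' : T ≤ g₂' ⁻¹ᵁ Q) (a : Γ(D.M i, P)) (b : Γ(D.M j, Q)) :
    RelAt D g₁ g₂ h e₁ e₂ a b ↔ RelAt D g₁' g₂' h' e₁' e₂' a b := by
  subst p₁ p₂
  exact Iff.rfl

variable {D g₁ g₂ h e₁ e₂}

theorem RelAt.pre {a : Γ(D.M i, P)} {b : Γ(D.M j, Q)} (hr : RelAt D g₁ g₂ h e₁ e₂ a b) {W' : Scheme.{u}}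
    (v : W' ⟶ W) {g₁' : W' ⟶ X i} {g₂' : W' ⟶ X j} (p₁ : v ≫ g₁ = g₁') (p₂ : v ≫ g₂ = g₂')
    (h' : g₁' ≫ f i = g₂' ≫ f j) {T' : W'.Opens} (e : T' ≤ v ⁻¹ᵁ T) (e₁' : T' ≤ g₁' ⁻¹ᵁ P) (e₂' : T' ≤ g₂' ⁻¹ᵁ Q) :
    RelAt D g₁' g₂' h' e₁' e₂' a b := by
  have hq : v ≫ g₂ ≫ f j = g₂' ≫ f j := by rw [← Category.assoc, p₂]
  have h1 : pushSec g₂ v g₂' p₂ (D.M j) e ((D.hom (g₂ ≫ f j) g₁ g₂ h rfl).app T (pullSec g₁ _ e₁ a)) =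
      pushSec g₂ v g₂' p₂ (D.M j) e (pullSec g₂ _ e₂ b) := congrArg _ hr
  rw [pushSec_natural g₁ v g₁' p₁ (D.M i) e g₂ g₂' p₂ (D.M j) (D.hom (g₂ ≫ f j) g₁ g₂ h rfl)
    (D.hom (g₂' ≫ f j) g₁' g₂' h' rfl) (D.nat v (g₂ ≫ f j) (g₂' ≫ f j) hq g₁ g₂ h rfl g₁' g₂' p₁ p₂ h' rfl),
    pushSec_pullSec g₁ v g₁' p₁ (D.M i) e e₁ e₁', pushSec_pullSec g₂ v g₂' p₂ (D.M j) e e₂ e₂'] at h1
  exact h1

theorem RelAt.mono {a : Γ(D.M i, P)} {b : Γ(D.M j, Q)} (hr : RelAt D g₁ g₂ h e₁ e₂ a b) {P' : (X i).Opens}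
    {Q' : (X j).Opens} (hP : P' ≤ P) (hQ : Q' ≤ Q) {T' : W.Opens} (hT : T' ≤ T) (e₁' : T' ≤ g₁ ⁻¹ᵁ P')
    (e₂' : T' ≤ g₂ ⁻¹ᵁ Q') : RelAt D g₁ g₂ h e₁' e₂' (mres _ hP a) (mres _ hQ b) := by
  rw [RelAt, ← FundIso27.pullSec_mres g₁ (D.M i) e₁ e₁' hP hT a, ← FundIso27.pullSec_mres g₂ (D.M j) e₂ e₂' hQ hT b]
  refine Eq.trans ?_ (congrArg (mres _ hT) hr)
  exact EtQc13.app_map (D.hom (g₂ ≫ f j) g₁ g₂ h rfl) (homOfLE hT) _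

theorem relAt_of_local {κ : Type u} (U : κ → W.Opens) (hU : ∀ k, U k ≤ T) (hcov : T ≤ ⨆ k, U k)
    {a : Γ(D.M i, P)} {b : Γ(D.M j, Q)}
    (hk : ∀ k, RelAt D g₁ g₂ h ((hU k).trans e₁) ((hU k).trans e₂) a b) : RelAt D g₁ g₂ h e₁ e₂ a b := by
  refine TopCat.Sheaf.eq_of_locally_eq' ⟨((Scheme.Modules.pullback g₂).obj (D.M j)).presheaf,
    ((Scheme.Modules.pullback g₂).obj (D.M j)).isSheaf⟩ U T (fun k => homOfLE (hU k)) hcov _ _ fun k => ?_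
  show mres _ (hU k) _ = mres _ (hU k) (pullSec g₂ _ e₂ b)
  rw [FundIso27.pullSec_mres g₂ (D.M j) e₂ ((hU k).trans e₂) le_rfl (hU k), InvExt.mres_self]
  refine Eq.trans ?_ (hk k)
  have h1 : mres _ (hU k) (pullSec g₁ (D.M i) e₁ a) = pullSec g₁ (D.M i) ((hU k).trans e₁) a := by
    rw [FundIso27.pullSec_mres g₁ (D.M i) e₁ ((hU k).trans e₁) le_rfl (hU k), InvExt.mres_self]
  exact (EtQc13.app_map (D.hom (g₂ ≫ f j) g₁ g₂ h rfl) (homOfLE (hU k)) _).symm.trans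
    (congrArg ((D.hom (g₂ ≫ f j) g₁ g₂ h rfl).app (U k)) h1)

theorem relAt_of_fromSpec (hT : IsAffineOpen T) {a : Γ(D.M i, P)} {b : Γ(D.M j, Q)}
    (h' : (hT.fromSpec ≫ g₁) ≫ f i = (hT.fromSpec ≫ g₂) ≫ f j)
    (e₁' : ⊤ ≤ (hT.fromSpec ≫ g₁) ⁻¹ᵁ P) (e₂' : ⊤ ≤ (hT.fromSpec ≫ g₂) ⁻¹ᵁ Q)
    (hr : RelAt D (hT.fromSpec ≫ g₁) (hT.fromSpec ≫ g₂) h' e₁' e₂' a b) : RelAt D g₁ g₂ h e₁ e₂ a b := by
  have e : (⊤ : (Spec Γ(W, T)).Opens) ≤ hT.fromSpec ⁻¹ᵁ T := fun _ _ => hT.range_fromSpec.le ⟨_, rfl⟩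
  have hq : hT.fromSpec ≫ g₂ ≫ f j = (hT.fromSpec ≫ g₂) ≫ f j := (Category.assoc _ _ _).symm
  haveI := D.qc j
  have hinj : Function.Injective (pushSec g₂ hT.fromSpec (hT.fromSpec ≫ g₂) rfl (D.M j) e) := by
    rw [pushSec_def]
    haveI := FittSheaf.isQuasicoherent_pullback g₂ (D.M j)
    rw [AddMonoidHom.coe_comp]
    refine Function.Injective.comp (g := (Scheme.Modules.Hom.app (QcDesc1.cT g₂ hT.fromSpec _ rfl (D.M j)).hom ⊤).hom)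
      ?_ (pullSec_injective_of_bijective hT.fromSpec ((Scheme.Modules.pullback g₂).obj (D.M j)) hT (isAffineOpen_top _) e ?_)
    · exact fun x y hxy => ((congr($((QcDesc1.cT g₂ hT.fromSpec _ rfl (D.M j)).hom_inv_id).app ⊤ x)).symm.trans
        (congrArg ((QcDesc1.cT g₂ hT.fromSpec _ rfl (D.M j)).inv.app ⊤) hxy)).trans
        congr($((QcDesc1.cT g₂ hT.fromSpec _ rfl (D.M j)).hom_inv_id).app ⊤ y)
    · have h1 : hT.fromSpec.appLE T ⊤ e = (Scheme.ΓSpecIso Γ(W, T)).inv := by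
        have := QcDesc1.fromSpec_appLE hT (𝟙 Γ(W, T)) (by simpa using e)
        simpa using this
      rw [h1]
      exact (ConcreteCategory.isIso_iff_bijective _).1 inferInstance
  refine hinj ?_
  rw [pushSec_natural g₁ hT.fromSpec (hT.fromSpec ≫ g₁) rfl (D.M i) e g₂ (hT.fromSpec ≫ g₂) rfl (D.M j)
    (D.hom (g₂ ≫ f j) g₁ g₂ h rfl) (D.hom ((hT.fromSpec ≫ g₂) ≫ f j) (hT.fromSpec ≫ g₁) (hT.fromSpec ≫ g₂) h' rfl)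
    (D.nat hT.fromSpec (g₂ ≫ f j) ((hT.fromSpec ≫ g₂) ≫ f j) hq g₁ g₂ h rfl (hT.fromSpec ≫ g₁) (hT.fromSpec ≫ g₂) rfl rfl h' rfl),
    pushSec_pullSec g₁ hT.fromSpec (hT.fromSpec ≫ g₁) rfl (D.M i) e e₁ e₁',
    pushSec_pullSec g₂ hT.fromSpec (hT.fromSpec ≫ g₂) rfl (D.M j) e e₂ e₂']
  exact hr

end GrothLib.QcEff29
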